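import Cfsg.Agent.Solvable.Glauberman
set_option linter.all false

/-!
# Lifting conjugacy and real elements modulo a normal subgroup of coprime order

* `exists_conj_of_coset`: two elements of a coset of `N` whose orders are prime to `|N|` are conjugate
  under `N`.
* `isConj_of_quotient`: if `a`, `b` have orders prime to `|N|` and are conjugate modulo `N`, they are
  conjugate.
* `exists_odd_lift`: an element of odd order of `G ⧸ N` lifts to an element of odd order of `G`.
-/

set_option autoImplicit false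
open scoped Pointwise

namespace Cfsg.Agent.H466.RealLift

variable {G : Type*} [Group G] [Finite G]

/-- Two elements of the same coset of a normal subgroup `N` whose orders are coprime to `|N|` are
conjugate by an element of `N`. -/
theorem exists_conj_of_coset (N : Subgroup G) [N.Normal] {a b : G}
    (ha : (orderOf a).Coprime (Nat.card N)) (hb : (orderOf b).Coprime (Nat.card N))
    (hab : a⁻¹ * b ∈ N) : ∃ n ∈ N, n * a * n⁻¹ = b := by
  have hAN : Subgroup.zpowers a ≤ Subgroup.normalizer (N : Set G) := by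
    rw [Subgroup.normalizer_eq_top_iff.2 inferInstance]
    exact le_top
  have hord : ∀ c : G, (orderOf c).Coprime (Nat.card N) → orderOf (QuotientGroup.mk c : G ⧸ N) = orderOf c := by
    intro c hc
    apply Nat.dvd_antisymm
    · exact orderOf_map_dvd (QuotientGroup.mk' N) c
    · rw [orderOf_dvd_iff_pow_eq_one]
      have h1 : c ^ orderOf (QuotientGroup.mk c : G ⧸ N) ∈ N := by
        rw [← QuotientGroup.eq_one_iff, QuotientGroup.mk_pow]
        exact pow_orderOf_eq_one _
      have h2 : orderOf (c ^ orderOf (QuotientGroup.mk c : G ⧸ N)) ∣ Nat.card N := by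
        have := Subgroup.orderOf_dvd_natCard (x := c ^ orderOf (QuotientGroup.mk c : G ⧸ N)) N h1
        exact this
      have h3 : orderOf (c ^ orderOf (QuotientGroup.mk c : G ⧸ N)) ∣ orderOf c := orderOf_pow_dvd _
      have h4 : orderOf (c ^ orderOf (QuotientGroup.mk c : G ⧸ N)) = 1 :=
        Nat.dvd_one.1 (hc ▸ Nat.dvd_gcd h3 h2)
      exact orderOf_eq_one_iff.1 h4
  have hmk : (QuotientGroup.mk a : G ⧸ N) = QuotientGroup.mk b := QuotientGroup.eq.2 hab
  have hcard : Nat.card (Subgroup.zpowers b) = Nat.card (Subgroup.zpowers a) := by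
    rw [Nat.card_zpowers, Nat.card_zpowers, ← hord a ha, ← hord b hb, hmk]
  have hB : Subgroup.zpowers b ≤ Subgroup.zpowers a ⊔ N := by
    rw [Subgroup.zpowers_le]
    have : b = a * (a⁻¹ * b) := by group
    rw [this]
    exact Subgroup.mul_mem_sup (Subgroup.mem_zpowers a) hab
  obtain ⟨n, hn, hnA⟩ := Cfsg.Agent.Solvable.Glauberman.exists_conj_of_le_sup (Subgroup.zpowers a) N hAN
    (by rw [Nat.card_zpowers]; exact ha)
    (Or.inl (Group.isSolvable_of_comm fun x y => mul_comm' x y)) (Subgroup.zpowers b) hB hcard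
  refine ⟨n, hn, ?_⟩
  have h1 : n * a * n⁻¹ ∈ Subgroup.zpowers b := by
    rw [← hnA, Subgroup.mem_pointwise_smul_iff_inv_smul_mem]
    simp [MulAut.smul_def, mul_assoc]
  have h2 : b⁻¹ * (n * a * n⁻¹) ∈ N := by
    rw [← QuotientGroup.eq, ← hmk]
    have h3 : (QuotientGroup.mk n : G ⧸ N) = 1 := (QuotientGroup.eq_one_iff n).2 hn
    rw [QuotientGroup.mk_mul, QuotientGroup.mk_mul, QuotientGroup.mk_inv, h3]
    simp
  have h4 : b⁻¹ * (n * a * n⁻¹) ∈ Subgroup.zpowers b :=
    Subgroup.mul_mem _ (Subgroup.inv_mem _ (Subgroup.mem_zpowers b)) h1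
  have h5 : Disjoint (Subgroup.zpowers b) N := by
    apply Subgroup.disjoint_of_coprime_natCard
    rw [Nat.card_zpowers]
    exact hb
  have h6 : b⁻¹ * (n * a * n⁻¹) = 1 := by
    have := h5.le_bot (Subgroup.mem_inf.2 ⟨h4, h2⟩)
    exact Subgroup.mem_bot.1 this
  exact (inv_mul_eq_one.1 h6).symm

/-- Elements of order coprime to `|N|` that are conjugate modulo `N` are conjugate. -/
theorem isConj_of_quotient (N : Subgroup G) [N.Normal] {a b : G}
    (ha : (orderOf a).Coprime (Nat.card N)) (hb : (orderOf b).Coprime (Nat.card N))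
    (hab : IsConj (QuotientGroup.mk a : G ⧸ N) (QuotientGroup.mk b)) : IsConj a b := by
  obtain ⟨q, hq⟩ := isConj_iff.1 hab
  obtain ⟨g, rfl⟩ := QuotientGroup.mk_surjective q
  have h1 : (orderOf (g * a * g⁻¹)).Coprime (Nat.card N) := by
    have : orderOf (g * a * g⁻¹) = orderOf a := by
      have := orderOf_injective (MulAut.conj g).toMonoidHom (MulAut.conj g).injective a
      simpa using this
    rw [this]
    exact ha
  have h2 : (g * a * g⁻¹)⁻¹ * b ∈ N := by
    rw [← QuotientGroup.eq, ← hq]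
    rfl
  obtain ⟨n, -, hn⟩ := exists_conj_of_coset N h1 hb h2
  rw [isConj_iff]
  refine ⟨n * g, ?_⟩
  rw [← hn]
  group

/-- An element of odd order of `G ⧸ N` lifts to an element of odd order of `G`. -/
theorem exists_odd_lift (N : Subgroup G) [N.Normal] (q : G ⧸ N) (hq : Odd (orderOf q)) :
    ∃ y : G, (QuotientGroup.mk y : G ⧸ N) = q ∧ Odd (orderOf y) := by
  obtain ⟨x, rfl⟩ := QuotientGroup.mk_surjective q
  have hpos : 0 < orderOf x := orderOf_pos x
  obtain ⟨a, m, hm, hx⟩ := Nat.exists_eq_two_pow_mul_odd hpos.ne'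
  -- `2 ^ a * u ≡ 1` modulo the order of the image
  have hcop : (2 ^ a).Coprime (orderOf (QuotientGroup.mk x : G ⧸ N)) := by
    apply Nat.Coprime.pow_left
    exact (Nat.coprime_two_left).2 hq
  obtain ⟨u, hu⟩ := exists_pow_eq_self_of_coprime hcop
  refine ⟨(x ^ 2 ^ a) ^ u, ?_, ?_⟩
  · rw [QuotientGroup.mk_pow, QuotientGroup.mk_pow]
    exact hu
  · have h1 : orderOf ((x ^ 2 ^ a) ^ u) ∣ m := by
      rw [orderOf_dvd_iff_pow_eq_one, ← pow_mul, ← pow_mul]
      have : 2 ^ a * (u * m) = orderOf x * u := by rw [hx]; ring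
      rw [this, pow_mul, pow_orderOf_eq_one, one_pow]
    exact Odd.of_dvd_nat hm h1

end Cfsg.Agent.H466.RealLift
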