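import Mathlib
import Cfsg.Prelude.Def_Solvable
import Cfsg.Prelude.Def_OddOrderLocal
import Cfsg.Agent.OddOrderLocal.PiCore
import Cfsg.Agent.OddOrderLocal.CNComplement
import Cfsg.Agent.OddOrderLocal.NilpotentUnique
import Cfsg.Agent.Solvable.FrobeniusKernel
import Cfsg.Agent.Solvable.FpfPGroup
import Cfsg.Agent.S0033
import Cfsg.Agent.S0039
set_option linter.all false

/-!
# Groups whose element orders split along a set of primes

`Spl A G`: the order of each element of `G` is an `A`-number or an `A'`-number.  (The set `A` is a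
union of components of the prime graph.)
-/

set_option autoImplicit false

namespace Cfsg.Agent.H466.Split

open Subgroup Cfsg
open scoped commutatorElement

universe u v

/-- Each element order is an `A`-number or an `A'`-number. -/
def Spl (A : Set ℕ) (G : Type u) [Group G] : Prop :=
  ∀ g : G, (∀ p : ℕ, p.Prime → p ∣ orderOf g → p ∈ A) ∨ (∀ p : ℕ, p.Prime → p ∣ orderOf g → p ∉ A)

theorem Spl.compl {A : Set ℕ} {G : Type u} [Group G] (h : Spl A G) : Spl Aᶜ G := by
  intro g
  rcases h g with h | h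
  · exact Or.inr fun p hp hd hn => hn (h p hp hd)
  · exact Or.inl h

theorem Spl.of_injective {A : Set ℕ} {G : Type u} {H : Type v} [Group G] [Group H] (h : Spl A G)
    (f : H →* G) (hf : Function.Injective f) : Spl A H := by
  intro g
  have := h (f g)
  rwa [orderOf_injective f hf] at this

theorem Spl.of_surjective {A : Set ℕ} {G : Type u} {H : Type v} [Group G] [Group H] (h : Spl A G)
    (f : G →* H) (hf : Function.Surjective f) : Spl A H := by
  intro g
  obtain ⟨x, rfl⟩ := hf g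
  rcases h x with h | h
  · exact Or.inl fun p hp hd => h p hp (hd.trans (orderOf_map_dvd f x))
  · exact Or.inr fun p hp hd => h p hp (hd.trans (orderOf_map_dvd f x))

theorem Spl.subgroup {A : Set ℕ} {G : Type u} [Group G] (h : Spl A G) (H : Subgroup G) : Spl A H :=
  h.of_injective H.subtype H.subtype_injective

theorem Spl.quotient {A : Set ℕ} {G : Type u} [Group G] (h : Spl A G) (N : Subgroup G) [N.Normal] :
    Spl A (G ⧸ N) :=
  h.of_surjective (QuotientGroup.mk' N) (QuotientGroup.mk'_surjective N)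

/-- Commuting elements. -/
theorem Spl.not_commute {A : Set ℕ} {G : Type u} [Group G] (h : Spl A G) {x y : G} {p q : ℕ}
    (hp : p.Prime) (hq : q.Prime) (hpA : p ∈ A) (hqA : q ∉ A) (hx : p ∣ orderOf x)
    (hy : q ∣ orderOf y) (hxf : orderOf x ≠ 0) (hyf : orderOf y ≠ 0) (hc : Commute x y) : False := by
  -- powers of order p, q
  obtain ⟨a, ha⟩ := hx
  obtain ⟨b, hb⟩ := hy
  have ha0 : a ≠ 0 := by rintro rfl; simp [ha] at hxf
  have hb0 : b ≠ 0 := by rintro rfl; simp [hb] at hyf
  have h1 : orderOf (x ^ a) = p := by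
    rw [orderOf_pow_of_dvd ha0 (ha ▸ Dvd.intro_left p rfl), ha, Nat.mul_div_cancel _ (Nat.pos_of_ne_zero ha0)]
  have h2 : orderOf (y ^ b) = q := by
    rw [orderOf_pow_of_dvd hb0 (hb ▸ Dvd.intro_left q rfl), hb, Nat.mul_div_cancel _ (Nat.pos_of_ne_zero hb0)]
  have hpq : p ≠ q := by rintro rfl; exact hqA hpA
  have h3 : orderOf (x ^ a * y ^ b) = p * q := by
    rw [(hc.pow_pow a b).orderOf_mul_eq_mul_orderOf_of_coprime (by
      rw [h1, h2]; exact (Nat.coprime_primes hp hq).2 hpq), h1, h2]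
  rcases h (x ^ a * y ^ b) with h | h
  · exact hqA (h q hq (h3 ▸ Dvd.intro_left p rfl))
  · exact h p hp (h3 ▸ Dvd.intro q rfl) hpA

/-- Version for nontrivial elements of a finite group. -/
theorem Spl.not_commute' {A : Set ℕ} {G : Type u} [Group G] [Finite G] (h : Spl A G) {x y : G}
    (hx : ∀ p : ℕ, p.Prime → p ∣ orderOf x → p ∈ A) (hy : ∀ p : ℕ, p.Prime → p ∣ orderOf y → p ∉ A)
    (hx1 : x ≠ 1) (hy1 : y ≠ 1) (hc : Commute x y) : False := by
  obtain ⟨p, hp, hpx⟩ := Nat.exists_prime_and_dvd (mt orderOf_eq_one_iff.1 hx1)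
  obtain ⟨q, hq, hqy⟩ := Nat.exists_prime_and_dvd (mt orderOf_eq_one_iff.1 hy1)
  exact h.not_commute hp hq (hx p hp hpx) (hy q hq hqy) hpx hqy (orderOf_pos x).ne'
    (orderOf_pos y).ne' hc

/-- The hypothesis of the statements. -/
theorem Spl.of_disc {A : Set ℕ} {G : Type u} [Group G] [Finite G]
    (h : ∀ a ∈ A, ∀ b ∉ A, a.Prime → b.Prime → a ∣ Nat.card G → b ∣ Nat.card G →
      ¬ ∃ g : G, orderOf g = a * b) : Spl A G := by
  intro g
  by_contra hcon
  push Not at hcon
  obtain ⟨⟨b, hb, hbg, hbA⟩, ⟨a, ha, hag, haA⟩⟩ := hcon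
  have hab : a ≠ b := by rintro rfl; exact hbA haA
  have h1 : a * b ∣ orderOf g :=
    ((Nat.coprime_primes ha hb).2 hab).mul_dvd_of_dvd_of_dvd hag hbg
  obtain ⟨c, hc⟩ := h1
  have hc0 : c ≠ 0 := by
    rintro rfl
    simp at hc
    exact (orderOf_pos g).ne' (by simpa using hc)
  refine h a haA b hbA ha hb (hag.trans (orderOf_dvd_natCard g)) (hbg.trans (orderOf_dvd_natCard g))
    ⟨g ^ c, ?_⟩
  rw [orderOf_pow_of_dvd hc0 (hc ▸ Dvd.intro_left _ rfl), hc,
    Nat.mul_div_cancel _ (Nat.pos_of_ne_zero hc0)]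

/-- An element whose order is an `A`-number and an `A'`-number is trivial. -/
theorem eq_one_of_both {A : Set ℕ} {G : Type u} [Group G] {x : G}
    (hx : ∀ p : ℕ, p.Prime → p ∣ orderOf x → p ∈ A) (hy : ∀ p : ℕ, p.Prime → p ∣ orderOf x → p ∉ A) :
    x = 1 := by
  by_contra h
  obtain ⟨p, hp, hpx⟩ := Nat.exists_prime_and_dvd (mt orderOf_eq_one_iff.1 h)
  exact hy p hp hpx (hx p hp hpx)

theorem coprime_of {A : Set ℕ} {m n : ℕ} (hm : ∀ p : ℕ, p.Prime → p ∣ m → p ∈ A)
    (hn : ∀ p : ℕ, p.Prime → p ∣ n → p ∉ A) : m.Coprime n :=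
  Nat.coprime_of_dvd fun p hp h1 h2 => hn p hp h2 (hm p hp h1)

/-- elements of subgroups whose order is an `A`-number. -/
theorem order_mem {A : Set ℕ} {G : Type u} [Group G] {N : Subgroup G}
    (hN : ∀ p : ℕ, p.Prime → p ∣ Nat.card N → p ∈ A) {x : G} (hx : x ∈ N) :
    ∀ p : ℕ, p.Prime → p ∣ orderOf x → p ∈ A := by
  intro p hp hd
  refine hN p hp (hd.trans ?_)
  exact Subgroup.orderOf_dvd_natCard N hx

/-- **Frobenius step.**  If `N ⊴ H` is a proper nontrivial `A`-subgroup with `H / N` an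
`A'`-group, in a group whose element orders split along `A`, then `H` is a Frobenius group with
kernel `N`. -/
theorem frobenius_step {A : Set ℕ} {H : Type u} [Group H] [Finite H] (hs : Spl A H)
    (N : Subgroup H) [N.Normal] (hN1 : N ≠ ⊥) (hNt : N ≠ ⊤)
    (hN : ∀ p : ℕ, p.Prime → p ∣ Nat.card N → p ∈ A)
    (hI : ∀ p : ℕ, p.Prime → p ∣ N.index → p ∉ A) :
    ∃ C : Subgroup H, IsFrobeniusComplement C ∧ frobeniusKernel C = (N : Set H) ∧
      IsComplement' N C := by
  obtain ⟨C, hC⟩ := Subgroup.exists_right_complement'_of_coprime (N := N) (coprime_of hN hI)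
  have hCcard : Nat.card C = N.index := by
    exact hC.symm.index_eq_card.symm
  have hC1 : C ≠ ⊥ := by
    rintro rfl
    rw [Subgroup.card_bot] at hCcard
    exact hNt (Subgroup.index_eq_one.1 hCcard.symm)
  have hCA : ∀ p : ℕ, p.Prime → p ∣ Nat.card C → p ∈ Aᶜ := by
    rw [hCcard]; exact hI
  have hF : IsFrobeniusComplement C := by
    refine (Cfsg.Agent.S0039.result N C hC hN1 hC1).2 ?_
    intro h hh h1
    rw [eq_bot_iff]
    rintro x ⟨hx, hxc⟩
    rw [Subgroup.mem_bot]
    by_contra hx1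
    exact hs.not_commute' (order_mem hN hx) (order_mem hCA hh) hx1 h1
      (Subgroup.mem_centralizer_singleton_iff.1 hxc)
  refine ⟨C, hF, ?_, hC⟩
  symm
  have hsub : (N : Set H) ⊆ frobeniusKernel C := by
    intro x hx
    rw [Solvable.FrobeniusKernel.mem_kernel_iff]
    by_cases hx1 : x = 1
    · exact Or.inl hx1
    · right
      intro g hg
      have h1 : g⁻¹ * x * g ∈ N := by
        have := ‹N.Normal›.conj_mem x hx g⁻¹
        rwa [inv_inv] at this
      have h2 : g⁻¹ * x * g = 1 := eq_one_of_both (order_mem hN h1) (order_mem hCA hg)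
      apply hx1
      have : x = g * (g⁻¹ * x * g) * g⁻¹ := by group
      rw [this, h2]; group
  refine Set.eq_of_subset_of_ncard_le hsub ?_ (Set.toFinite _)
  have h1 := Solvable.FrobeniusKernel.card_kernel hF
  have h2 : Nat.card N = C.index := by
    exact hC.index_eq_card.symm
  rw [← Nat.card_coe_set_eq, ← Nat.card_coe_set_eq]
  rw [h1]
  exact h2.symm.le

/-- Conjugating into the centralizer of a cyclic normal subgroup: `Q / C_Q(M)` is abelian. -/
theorem commutator_mem_centralizer {Q : Type u} [Group Q] (M : Subgroup Q) [M.Normal]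
    (hM : IsCyclic M) (x y : Q) : ⁅x, y⁆ ∈ centralizer (M : Set Q) := by
  obtain ⟨g, hg⟩ := hM.exists_generator
  have key : ∀ z : Q, ∃ n : ℤ, z * (g : Q) * z⁻¹ = (g : Q) ^ n := by
    intro z
    obtain ⟨n, hn⟩ := Subgroup.mem_zpowers_iff.1 (hg ⟨z * g * z⁻¹, ‹M.Normal›.conj_mem _ g.2 z⟩)
    exact ⟨n, by simpa using (congrArg Subtype.val hn).symm⟩
  have hinj : ∀ z : Q, ∀ n : ℤ, z * (g : Q) ^ n * z⁻¹ = (z * g * z⁻¹) ^ n := by
    intro z n; rw [conj_zpow]
  obtain ⟨a, ha⟩ := key x
  obtain ⟨b, hb⟩ := key y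
  have h1 : x * y * g * (x * y)⁻¹ = (y * x) * g * (y * x)⁻¹ := by
    have e1 : x * y * g * (x * y)⁻¹ = x * (y * g * y⁻¹) * x⁻¹ := by group
    have e2 : y * x * g * (y * x)⁻¹ = y * (x * g * x⁻¹) * y⁻¹ := by group
    rw [e1, e2, ha, hb, hinj, hinj, ha, hb, ← zpow_mul, ← zpow_mul, mul_comm]
  -- the commutator centralizes the generator `y x g (y x)⁻¹`... and so everything
  have h2 : ∀ z ∈ M, x * y * z * (x * y)⁻¹ = (y * x) * z * (y * x)⁻¹ := by
    intro z hz
    obtain ⟨n, hn⟩ := Subgroup.mem_zpowers_iff.1 (hg ⟨z, hz⟩)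
    have hn' : (g : Q) ^ n = z := by simpa using congrArg Subtype.val hn
    rw [← hn', ← conj_zpow, ← conj_zpow, h1]
  rw [Subgroup.mem_centralizer_iff]
  intro z hz
  have h3 := h2 ((y * x)⁻¹ * z * (y * x)) (by
    have := ‹M.Normal›.conj_mem z hz (y * x)⁻¹
    rwa [inv_inv] at this)
  have h4 : (y * x) * ((y * x)⁻¹ * z * (y * x)) * (y * x)⁻¹ = z := by group
  rw [h4] at h3
  rw [commutatorElement_def]
  have h5 : x * y * x⁻¹ * y⁻¹ * z * (x * y * x⁻¹ * y⁻¹)⁻¹ = z := by
    have h6 : x * y * x⁻¹ * y⁻¹ * z * (x * y * x⁻¹ * y⁻¹)⁻¹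
        = x * y * ((y * x)⁻¹ * z * (y * x)) * (x * y)⁻¹ := by group
    rw [h6, h3]
  exact (mul_inv_eq_iff_eq_mul.1 h5).symm

/-- A nilpotent group acting fixed point freely has at most one subgroup of each prime order. -/
theorem unique_prime {H : Type u} [Group H] [Finite H] (C N : Subgroup H) (hN : N ≠ ⊥)
    (hC : C ≤ normalizer (N : Set H)) (hnil : Group.IsNilpotent C)
    (hfpf : ∀ a ∈ C, a ≠ 1 → N ⊓ centralizer {a} = ⊥) :
    ∀ r : ℕ, r.Prime → ∀ x y : C, orderOf x = r → y ^ r = 1 → y ∈ zpowers x := by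
  intro r hr x y hx hy
  have := Fact.mk hr
  have hrC : r ∣ Nat.card C := hx ▸ orderOf_dvd_natCard x
  obtain ⟨z, hzC, hzr, hz⟩ := OddOrderLocal.CNComplement.exists_central_in_part hnil hr hrC
  have hx' : orderOf (x : H) = r := by rw [Subgroup.orderOf_coe, hx]
  by_cases hy1 : y = 1
  · rw [hy1]; exact one_mem _
  have hyr : orderOf y = r := orderOf_eq_prime hy hy1
  have hy' : orderOf (y : H) = r := by rw [Subgroup.orderOf_coe, hyr]
  have h1 := Solvable.FpfPGroup.zpowers_eq C N hN hC hfpf hr hzC x.2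
    (hz x x.2 ⟨1, by rw [pow_one, ← hx', pow_orderOf_eq_one]⟩).eq hzr hx'
  have h2 := Solvable.FpfPGroup.zpowers_eq C N hN hC hfpf hr hzC y.2
    (hz y y.2 ⟨1, by rw [pow_one, ← hy', pow_orderOf_eq_one]⟩).eq hzr hy'
  have h3 : (y : H) ∈ zpowers (x : H) := by
    rw [← h1, h2]; exact mem_zpowers _
  obtain ⟨k, hk⟩ := Subgroup.mem_zpowers_iff.1 h3
  exact Subgroup.mem_zpowers_iff.2 ⟨k, Subtype.ext hk⟩

/-- An element of prime order `p` (in `A`) acts fixed point freely on a normal `A'`-subgroup, which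
is therefore nilpotent. -/
theorem nilpotent_of_prime {A : Set ℕ} {Q : Type u} [Group Q] [Finite Q] (hs : Spl A Q)
    (M : Subgroup Q) [M.Normal] (hM : ∀ p : ℕ, p.Prime → p ∣ Nat.card M → p ∉ A)
    {p : ℕ} (hp : p.Prime) (hpA : p ∈ A) {b : Q} (hb : orderOf b = p) :
    Group.IsNilpotent M := by
  have := Fact.mk hp
  by_cases hM1 : M = ⊥
  · subst hM1
    infer_instance
  have hfix : ∀ m : M, (b : Q) * m * b⁻¹ = m → m = 1 := by
    intro m hm
    by_contra h1
    refine hs.not_commute' (x := b) (y := (m : Q)) ?_ ?_ ?_ ?_ ?_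
    · intro q hq hqb
      rw [hb] at hqb
      rwa [(Nat.prime_dvd_prime_iff_eq hq hp).1 hqb]
    · exact order_mem (A := Aᶜ) hM m.2
    · rintro rfl; rw [orderOf_one] at hb; exact hp.one_lt.ne hb
    · exact fun h => h1 (Subtype.ext h)
    · exact mul_inv_eq_iff_eq_mul.1 hm
  let φ : M ≃* M := MulAut.conjNormal b
  have hφ : ∀ m : M, ((φ m : M) : Q) = b * m * b⁻¹ := fun m => MulAut.conjNormal_apply b m
  refine Cfsg.Agent.S0033.result φ ?_ p hp ?_
  · intro m hm
    refine hfix m ?_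
    rw [← hφ]
    exact congrArg Subtype.val hm
  · refine orderOf_eq_prime ?_ ?_
    · have : (MulAut.conjNormal b : MulAut M) ^ p = 1 := by
        rw [← map_pow, ← hb, pow_orderOf_eq_one, map_one]
      exact this
    · intro h
      apply hM1
      rw [eq_bot_iff]
      intro m hm
      have h1 : φ ⟨m, hm⟩ = ⟨m, hm⟩ := by rw [h]; rfl
      have h2 := hfix ⟨m, hm⟩ (by rw [← hφ, h1])
      exact Subgroup.mem_bot.2 (congrArg Subtype.val h2)

/-- The centralizer of `O_{A'}(Q) ≠ 1` lies in it. -/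
theorem centralizer_piCore_le {A : Set ℕ} {Q : Type u} [Group Q] [Finite Q] (hs : Spl A Q)
    (hne : piCore Aᶜ Q ≠ ⊥) :
    centralizer (piCore Aᶜ Q : Set Q) ≤ piCore Aᶜ Q := by
  have hch := OddOrderLocal.PiCore.piCore_characteristic (G := Q) Aᶜ
  have hn : (centralizer (piCore Aᶜ Q : Set Q)).Normal := inferInstance
  refine OddOrderLocal.PiCore.le_piCore hn ?_
  intro p hp hd hpA
  have := Fact.mk hp
  obtain ⟨x, hx⟩ := exists_prime_orderOf_dvd_card' (G := centralizer (piCore Aᶜ Q : Set Q)) p hd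
  obtain ⟨m, hm, hm1⟩ := (piCore Aᶜ Q).bot_or_exists_ne_one.resolve_left hne
  have hx' : orderOf (x : Q) = p := by rw [Subgroup.orderOf_coe, hx]
  refine hs.not_commute' (x := (x : Q)) (y := m) ?_
    (order_mem (OddOrderLocal.PiCore.piCore_isPi Aᶜ) hm) ?_ hm1 ?_
  · intro q hq hqb
    rw [hx'] at hqb
    rwa [(Nat.prime_dvd_prime_iff_eq hq hp).1 hqb]
  · intro h
    rw [h, orderOf_one] at hx'
    exact hp.one_lt.ne hx'
  · exact ((Subgroup.mem_centralizer_iff.1 x.2) m hm).symm

/-- The 2-Frobenius conclusion. -/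
def TwoFrob (G : Type u) [Group G] : Prop :=
  ∃ (H K : Subgroup G) (_ : H.Normal), K.Normal ∧ H < K ∧
    (∃ C : Subgroup ↥K, Cfsg.IsFrobeniusComplement C ∧
      Cfsg.frobeniusKernel C = (H.subgroupOf K : Set ↥K)) ∧
    (∃ C : Subgroup (G ⧸ H), Cfsg.IsFrobeniusComplement C ∧
      Cfsg.frobeniusKernel C = (K.map (QuotientGroup.mk' H) : Set (G ⧸ H)))

/-- In the situation `1 ≠ O_A(G) = N`, `1 ≠ O_{A'}(G/N) = M/N`, the group `M` is Frobenius with
kernel `N`, and the complement of `N` in `M` is nilpotent with unique subgroups of prime order,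
... so: if some prime of `A` divides `|G/N|` then `G/M` is an `A`-group. -/
theorem index_of_core {A : Set ℕ} {G : Type u} [Group G] [Finite G] (hs : Spl A G)
    (hN : piCore A G ≠ ⊥) (hM : piCore Aᶜ (G ⧸ piCore A G) ≠ ⊥) {p : ℕ} (hp : p.Prime) (hpA : p ∈ A)
    (hpQ : p ∣ Nat.card (G ⧸ piCore A G)) :
    ∀ q : ℕ, q.Prime → q ∣ (piCore Aᶜ (G ⧸ piCore A G)).index → q ∈ A := by
  have := Fact.mk hp
  set N : Subgroup G := piCore A G with hNdef
  have hNn : N.Normal := by
    have := OddOrderLocal.PiCore.piCore_characteristic (G := G) A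
    infer_instance
  set Q := G ⧸ N with hQ
  set Mb : Subgroup Q := piCore Aᶜ Q with hMb
  have hMn : Mb.Normal := by
    have := OddOrderLocal.PiCore.piCore_characteristic (G := Q) Aᶜ
    infer_instance
  have hsQ : Spl A Q := hs.quotient N
  have hNA : ∀ r : ℕ, r.Prime → r ∣ Nat.card N → r ∈ A := OddOrderLocal.PiCore.piCore_isPi A
  have hMA : ∀ r : ℕ, r.Prime → r ∣ Nat.card Mb → r ∈ Aᶜ := OddOrderLocal.PiCore.piCore_isPi Aᶜ
  obtain ⟨b, hb⟩ := exists_prime_orderOf_dvd_card' (G := Q) p hpQ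
  have hnil : Group.IsNilpotent Mb := nilpotent_of_prime hsQ Mb hMA hp hpA hb
  -- the preimage of `Mb` and a complement there
  set M : Subgroup G := Mb.comap (QuotientGroup.mk' N) with hMdef
  have hNM : N ≤ M := by
    intro x hx
    rw [hMdef, Subgroup.mem_comap]
    have : QuotientGroup.mk' N x = 1 := (QuotientGroup.eq_one_iff x).2 hx
    rw [this]; exact one_mem _
  have hmap : M.map (QuotientGroup.mk' N) = Mb := by
    rw [hMdef, Subgroup.map_comap_eq_self_of_surjective (QuotientGroup.mk'_surjective N)]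
  have hrel : N.relIndex M = Nat.card Mb := by
    have h1 := Subgroup.relIndex_comap (f := QuotientGroup.mk' N) (⊥ : Subgroup Q) M
    rw [hmap, Subgroup.relIndex_bot_left] at h1
    rw [← h1]
    congr 1
    rw [MonoidHom.comap_bot, QuotientGroup.ker_mk']
  have hsM : Spl A M := hs.subgroup M
  have hNM' : (N.subgroupOf M).Normal := inferInstance
  obtain ⟨C, hCF, hCk, hCc⟩ := frobenius_step hsM (N.subgroupOf M)
    (by
      intro h
      rw [Subgroup.subgroupOf_eq_bot] at h
      exact hN (h.eq_bot_of_le hNM))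
    (by
      intro h
      rw [Subgroup.subgroupOf_eq_top] at h
      have : M = N := le_antisymm h hNM
      apply hM
      rw [← hmap, this]
      rw [Subgroup.map_eq_bot_iff, QuotientGroup.ker_mk'])
    (by
      intro r hr hd
      refine hNA r hr ?_
      rwa [Nat.card_congr (Subgroup.subgroupOfEquivOfLe hNM).toEquiv] at hd)
    (by
      intro r hr hd
      exact hMA r hr (hrel ▸ hd))
  -- `C ≃* Mb`
  have hfpf : ∀ a ∈ C, a ≠ 1 → N.subgroupOf M ⊓ centralizer {a} = ⊥ :=
    (Cfsg.Agent.S0039.result (N.subgroupOf M) C hCc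
      (by
        intro h
        rw [Subgroup.subgroupOf_eq_bot] at h
        exact hN (h.eq_bot_of_le hNM)) hCF.1).1 hCF
  let f : C →* Mb := ((QuotientGroup.mk' N).comp (M.subtype.comp C.subtype)).codRestrict Mb
    (fun c => (c : M).2)
  have hfinj : Function.Injective f := by
    rw [injective_iff_map_eq_one]
    intro c hc
    have h1 : QuotientGroup.mk' N ((c : M) : G) = 1 := congrArg Subtype.val hc
    have h2 : ((c : M) : G) ∈ N := (QuotientGroup.eq_one_iff _).1 h1
    have h3 : (c : M) ∈ N.subgroupOf M ⊓ C := ⟨h2, c.2⟩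
    rw [hCc.disjoint.eq_bot] at h3
    exact Subtype.ext (Subgroup.mem_bot.1 h3)
  have hcard : Nat.card C = Nat.card Mb := by
    rw [← hrel]
    exact hCc.symm.index_eq_card.symm
  have hfbij : Function.Bijective f := (Nat.bijective_iff_injective_and_card f).2 ⟨hfinj, hcard⟩
  let e : C ≃* Mb := MulEquiv.ofBijective f hfbij
  have hCnil : Group.IsNilpotent C := Group.nilpotent_of_mulEquiv e.symm
  have hCu := unique_prime C (N.subgroupOf M)
    (by
      intro h
      rw [Subgroup.subgroupOf_eq_bot] at h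
      exact hN (h.eq_bot_of_le hNM))
    (by rw [Subgroup.normalizer_eq_top]; exact le_top) hCnil hfpf
  have hMu : ∀ r : ℕ, r.Prime → ∀ x y : Mb, orderOf x = r → y ^ r = 1 → y ∈ zpowers x := by
    intro r hr x y hx hy
    have h1 := hCu r hr (e.symm x) (e.symm y) (by rw [MulEquiv.orderOf_eq, hx])
      (by rw [← map_pow, hy, map_one])
    obtain ⟨k, hk⟩ := Subgroup.mem_zpowers_iff.1 h1
    refine Subgroup.mem_zpowers_iff.2 ⟨k, ?_⟩
    have := congrArg e hk
    rwa [map_zpow, MulEquiv.apply_symm_apply, MulEquiv.apply_symm_apply] at this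
  -- the order of `Mb` is odd
  have hodd : Odd (Nat.card Mb) := by
    by_contra hev
    rw [Nat.not_odd_iff_even, even_iff_two_dvd] at hev
    have h2 := Fact.mk Nat.prime_two
    obtain ⟨t, ht⟩ := exists_prime_orderOf_dvd_card' (G := Mb) 2 hev
    have ht' : orderOf (t : Q) = 2 := by rw [Subgroup.orderOf_coe, ht]
    have h3 := hMu 2 Nat.prime_two t ⟨b * t * b⁻¹, hMn.conj_mem _ t.2 b⟩ ht
      (by
        apply Subtype.ext
        have : ((t : Q)) ^ 2 = 1 := by rw [← ht', pow_orderOf_eq_one]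
        simp [conj_pow, this])
    obtain ⟨k, hk⟩ := Subgroup.mem_zpowers_iff.1 h3
    have hk' : (t : Q) ^ k = b * t * b⁻¹ := by simpa using congrArg Subtype.val hk
    have ht1 : (t : Q) ≠ 1 := by
      intro h; rw [h, orderOf_one] at ht'; omega
    have h4 : b * (t : Q) * b⁻¹ = t := by
      rw [← zpow_mod_orderOf, ht'] at hk'
      rcases Int.emod_two_eq_zero_or_one k with h0 | h0
      · exfalso
        have h5 : b * (t : Q) * b⁻¹ = 1 := by
          rw [← hk']
          simp [h0]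
        apply ht1
        have : (t : Q) = b⁻¹ * (b * (t : Q) * b⁻¹) * b := by group
        rw [this, h5]; group
      · rw [← hk']
        simp [h0]
    have hcomm : Commute b (t : Q) := mul_inv_eq_iff_eq_mul.1 h4
    have hb1 : b ≠ 1 := by
      rintro rfl; rw [orderOf_one] at hb; exact hp.one_lt.ne hb
    refine hsQ.not_commute' (x := b) (y := (t : Q)) ?_ (order_mem (A := Aᶜ) hMA t.2) hb1 ht1 hcomm
    intro r hr hd
    rw [hb] at hd
    rwa [(Nat.prime_dvd_prime_iff_eq hr hp).1 hd]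
  have hcyc : IsCyclic Mb := OddOrderLocal.NilpotentUnique.isCyclic_of_odd hMu hodd
  have hcent : centralizer (Mb : Set Q) ≤ Mb := centralizer_piCore_le hsQ hM
  have hab : ∀ x y : Q ⧸ Mb, x * y = y * x := by
    intro x y
    induction x using QuotientGroup.induction_on with | H x => ?_
    induction y using QuotientGroup.induction_on with | H y => ?_
    have h1 : ⁅x, y⁆ ∈ Mb := hcent (commutator_mem_centralizer Mb hcyc x y)
    rw [← QuotientGroup.mk_mul, ← QuotientGroup.mk_mul, QuotientGroup.eq]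
    have h2 : (x * y)⁻¹ * (y * x) = y⁻¹ * ⁅x⁻¹, y⁆ * y := by
      rw [commutatorElement_def]; group
    have h3 : ⁅x⁻¹, y⁆ ∈ Mb := hcent (commutator_mem_centralizer Mb hcyc _ _)
    have h4 : (x * y)⁻¹ * (y * x) = ⁅y⁻¹, x⁻¹⁆ := by
      rw [commutatorElement_def]; group
    rw [h4]
    exact hcent (commutator_mem_centralizer Mb hcyc _ _)
  intro q hq hqI
  by_contra hqA
  have := Fact.mk hq
  obtain ⟨x, hx⟩ := exists_prime_orderOf_dvd_card' (G := Q ⧸ Mb) q hqI
  have hxn : (zpowers x).Normal := ⟨fun n hn g => by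
    have : g * n * g⁻¹ = n := by rw [hab g n]; group
    rwa [this]⟩
  have h1 : zpowers x ≤ piCore Aᶜ (Q ⧸ Mb) := by
    refine OddOrderLocal.PiCore.le_piCore hxn ?_
    intro r hr hd
    rw [Nat.card_zpowers, hx] at hd
    rwa [(Nat.prime_dvd_prime_iff_eq hr hq).1 hd]
  rw [OddOrderLocal.PiCore.piCore_quotient_eq_bot] at h1
  have h2 : x = 1 := Subgroup.mem_bot.1 (h1 (mem_zpowers x))
  rw [h2, orderOf_one] at hx
  exact hq.one_lt.ne hx

/-- **The solvable-type case.**  If `O_A(G) ≠ 1` and `O_{A'}(G / O_A(G)) ≠ 1` then `G` is Frobenius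
or 2-Frobenius. -/
theorem frob_or_twoFrob {A : Set ℕ} {G : Type u} [Group G] [Finite G] (hs : Spl A G)
    (hN : piCore A G ≠ ⊥) (hM : piCore Aᶜ (G ⧸ piCore A G) ≠ ⊥) :
    (∃ C : Subgroup G, IsFrobeniusComplement C) ∨ TwoFrob G := by
  have hNn : (piCore A G).Normal := by
    have := OddOrderLocal.PiCore.piCore_characteristic (G := G) A
    infer_instance
  have hNA : ∀ r : ℕ, r.Prime → r ∣ Nat.card (piCore A G) → r ∈ A :=
    OddOrderLocal.PiCore.piCore_isPi A
  have hNt : piCore A G ≠ ⊤ := by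
    intro h
    apply hM
    rw [eq_bot_iff]
    intro x _
    obtain ⟨y, rfl⟩ := QuotientGroup.mk'_surjective _ x
    rw [Subgroup.mem_bot]
    exact (QuotientGroup.eq_one_iff y).2 (h ▸ Subgroup.mem_top y)
  by_cases hex : ∃ p : ℕ, p.Prime ∧ p ∈ A ∧ p ∣ Nat.card (G ⧸ piCore A G)
  · right
    obtain ⟨p, hp, hpA, hpQ⟩ := hex
    have hidx := index_of_core hs hN hM hp hpA hpQ
    set N : Subgroup G := piCore A G with hNdef
    set Q := G ⧸ N with hQ
    set Mb : Subgroup Q := piCore Aᶜ Q with hMb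
    have hMn : Mb.Normal := by
      have := OddOrderLocal.PiCore.piCore_characteristic (G := Q) Aᶜ
      infer_instance
    have hsQ : Spl A Q := hs.quotient N
    have hMA : ∀ r : ℕ, r.Prime → r ∣ Nat.card Mb → r ∈ Aᶜ := OddOrderLocal.PiCore.piCore_isPi Aᶜ
    set M : Subgroup G := Mb.comap (QuotientGroup.mk' N) with hMdef
    have hNM : N ≤ M := by
      intro x hx
      rw [hMdef, Subgroup.mem_comap]
      have : QuotientGroup.mk' N x = 1 := (QuotientGroup.eq_one_iff x).2 hx
      rw [this]; exact one_mem _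
    have hmap : M.map (QuotientGroup.mk' N) = Mb := by
      rw [hMdef, Subgroup.map_comap_eq_self_of_surjective (QuotientGroup.mk'_surjective N)]
    have hrel : N.relIndex M = Nat.card Mb := by
      have h1 := Subgroup.relIndex_comap (f := QuotientGroup.mk' N) (⊥ : Subgroup Q) M
      rw [hmap, Subgroup.relIndex_bot_left] at h1
      rw [← h1]
      congr 1
      rw [MonoidHom.comap_bot, QuotientGroup.ker_mk']
    have hsM : Spl A M := hs.subgroup M
    have hMN : M ≠ N := by
      intro h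
      apply hM
      rw [← hmap, h]
      rw [Subgroup.map_eq_bot_iff, QuotientGroup.ker_mk']
    have hMn' : M.Normal := inferInstance
    obtain ⟨C, hCF, hCk, hCc⟩ := frobenius_step hsM (N.subgroupOf M)
      (by
        intro h
        rw [Subgroup.subgroupOf_eq_bot] at h
        exact hN (h.eq_bot_of_le hNM))
      (by
        intro h
        rw [Subgroup.subgroupOf_eq_top] at h
        exact hMN (le_antisymm h hNM))
      (by
        intro r hr hd
        refine hNA r hr ?_
        rwa [Nat.card_congr (Subgroup.subgroupOfEquivOfLe hNM).toEquiv] at hd)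
      (by
        intro r hr hd
        exact hMA r hr (hrel ▸ hd))
    obtain ⟨B, hBF, hBk, hBc⟩ := frobenius_step hsQ.compl Mb hM
      (by
        intro h
        have h1 : Nat.card Mb = Nat.card Q := by rw [h, Subgroup.card_top]
        exact hMA p hp (h1 ▸ hpQ) hpA)
      hMA (fun r hr hd h => h (hidx r hr hd))
    refine ⟨N, M, hNn, hMn', lt_of_le_of_ne hNM hMN.symm, ⟨C, hCF, hCk⟩, ⟨B, hBF, ?_⟩⟩
    rw [hBk, hmap]
  · left
    push Not at hex
    obtain ⟨C, hC, -, -⟩ := frobenius_step hs (piCore A G) hN hNt hNA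
      (fun r hr hd hrA => hex r hr hrA hd)
    exact ⟨C, hC⟩

end Cfsg.Agent.H466.Split
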