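import Cfsg.Agent.H466.Split
import Cfsg.Agent.S0044
import Cfsg.Agent.S3857
import Cfsg.Agent.Mrg.Omega.ML.LieRow.Bld
import Cfsg.Agent.FixBN.OfBN
import Cfsg.Agent.Tits.Opp
import Cfsg.Agent.S0320
import Cfsg.Agent.Mrg.Omega.ML.InOf
import Cfsg.Agent.H996.AllSplit_m3
import Cfsg.Agent.FixBN.LOAll
import Cfsg.Agent.FixBN.ReeSplit
import Cfsg.Agent.Mrg.Omega.TwoF.RowTh_m3
import Cfsg.Agent.StandardComponent.AltAut
import Cfsg.Agent.S0000
import Cfsg.Agent.S0254
import Cfsg.Agent.S2060
import Cfsg.Agent.S2061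
import Cfsg.Agent.S2062
import Cfsg.Agent.S2063
import Cfsg.Agent.S2064
import Cfsg.Agent.S2065
import Cfsg.Agent.S2066
import Cfsg.Agent.S2067
import Cfsg.Agent.S2068
import Cfsg.Agent.S2069
import Cfsg.Agent.S2070
import Cfsg.Agent.S2071
import Cfsg.Agent.S2072
import Cfsg.Agent.S2073
import Cfsg.Agent.S2074
import Cfsg.Agent.S2075
import Cfsg.Agent.S2076
import Cfsg.Agent.S2077
import Cfsg.Agent.S2078
import Cfsg.Agent.S2079
import Cfsg.Agent.S2080
import Cfsg.Agent.S2081
import Cfsg.Agent.S2082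
import Cfsg.Agent.S2083
import Cfsg.Agent.S2084
import Cfsg.Agent.S2085
import Cfsg.Agent.FastGrp
import Cfsg.Agent.Prune
set_option linter.all false
prune_inst 0x7f00000000000000000000000000000000000000000000000000000000000000000000000000000000000000000000000000000000000000000000000000000000000000000000000000000000000000003fffffffffffffffffffffffffffbeffbdffffffff
open scoped Cfsg.Agent.FastGrp

-- part: H466/SplitTwo
section
/-!
# Groups whose element orders split along a set of primes, II
-/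

set_option autoImplicit false

namespace Cfsg.Agent.H466.Split

open Subgroup Cfsg
open scoped commutatorElement

universe u v

/-- In the situation `1 ≠ O_A(G) = N`, `1 ≠ O_{A'}(G/N) = M/N`, the group `M` is Frobenius with
kernel `N`, and the complement of `N` in `M` is nilpotent with unique subgroups of prime order,
... so: if some prime of `A` divides `|G/N|` then `G/M` is an `A`-group. -/
theorem odd_core {A : Set ℕ} {G : Type u} [Group G] [Finite G] (hs : Spl A G)
    (hN : piCore A G ≠ ⊥) (hM : piCore Aᶜ (G ⧸ piCore A G) ≠ ⊥) {p : ℕ} (hp : p.Prime) (hpA : p ∈ A)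
    (hpQ : p ∣ Nat.card (G ⧸ piCore A G)) :
    Odd (Nat.card (piCore Aᶜ (G ⧸ piCore A G))) ∧ IsCyclic (piCore Aᶜ (G ⧸ piCore A G)) := by
  have := Fact.mk hp
  set N : Subgroup G := piCore A G with hNdef
  have hNn : N.Normal := by
    have := OddOrderLocal.PiCore.piCore_characteristic (G := G) A
    infer_instance
  set Q := G ⧸ N with hQ
  set Mb : Subgroup Q := piCore Aᶜ Q with hMb
  have hMn : Mb.Normal := by
    have := OddOrderLocal.PiCore.piCore_characteristic (G := Q) Aᶜ
    infer_instance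
  have hsQ : Spl A Q := hs.quotient N
  have hNA : ∀ r : ℕ, r.Prime → r ∣ Nat.card N → r ∈ A := OddOrderLocal.PiCore.piCore_isPi A
  have hMA : ∀ r : ℕ, r.Prime → r ∣ Nat.card Mb → r ∈ Aᶜ := OddOrderLocal.PiCore.piCore_isPi Aᶜ
  obtain ⟨b, hb⟩ := exists_prime_orderOf_dvd_card' (G := Q) p hpQ
  have hnil : Group.IsNilpotent Mb := nilpotent_of_prime hsQ Mb hMA hp hpA hb
  -- the preimage of `Mb` and a complement there
  set M : Subgroup G := Mb.comap (QuotientGroup.mk' N) with hMdef
  have hNM : N ≤ M := by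
    intro x hx
    rw [hMdef, Subgroup.mem_comap]
    have : QuotientGroup.mk' N x = 1 := (QuotientGroup.eq_one_iff x).2 hx
    rw [this]; exact one_mem _
  have hmap : M.map (QuotientGroup.mk' N) = Mb := by
    rw [hMdef, Subgroup.map_comap_eq_self_of_surjective (QuotientGroup.mk'_surjective N)]
  have hrel : N.relIndex M = Nat.card Mb := by
    have h1 := Subgroup.relIndex_comap (f := QuotientGroup.mk' N) (⊥ : Subgroup Q) M
    rw [hmap, Subgroup.relIndex_bot_left] at h1
    rw [← h1]
    congr 1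
    rw [MonoidHom.comap_bot, QuotientGroup.ker_mk']
  have hsM : Spl A M := hs.subgroup M
  have hNM' : (N.subgroupOf M).Normal := inferInstance
  obtain ⟨C, hCF, hCk, hCc⟩ := frobenius_step hsM (N.subgroupOf M)
    (by
      intro h
      rw [Subgroup.subgroupOf_eq_bot] at h
      exact hN (h.eq_bot_of_le hNM))
    (by
      intro h
      rw [Subgroup.subgroupOf_eq_top] at h
      have : M = N := le_antisymm h hNM
      apply hM
      rw [← hmap, this]
      rw [Subgroup.map_eq_bot_iff, QuotientGroup.ker_mk'])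
    (by
      intro r hr hd
      refine hNA r hr ?_
      rwa [Nat.card_congr (Subgroup.subgroupOfEquivOfLe hNM).toEquiv] at hd)
    (by
      intro r hr hd
      exact hMA r hr (hrel ▸ hd))
  -- `C ≃* Mb`
  have hfpf : ∀ a ∈ C, a ≠ 1 → N.subgroupOf M ⊓ centralizer {a} = ⊥ :=
    (Cfsg.Agent.S0039.result (N.subgroupOf M) C hCc
      (by
        intro h
        rw [Subgroup.subgroupOf_eq_bot] at h
        exact hN (h.eq_bot_of_le hNM)) hCF.1).1 hCF
  let f : C →* Mb := ((QuotientGroup.mk' N).comp (M.subtype.comp C.subtype)).codRestrict Mb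
    (fun c => (c : M).2)
  have hfinj : Function.Injective f := by
    rw [injective_iff_map_eq_one]
    intro c hc
    have h1 : QuotientGroup.mk' N ((c : M) : G) = 1 := congrArg Subtype.val hc
    have h2 : ((c : M) : G) ∈ N := (QuotientGroup.eq_one_iff _).1 h1
    have h3 : (c : M) ∈ N.subgroupOf M ⊓ C := ⟨h2, c.2⟩
    rw [hCc.disjoint.eq_bot] at h3
    exact Subtype.ext (Subgroup.mem_bot.1 h3)
  have hcard : Nat.card C = Nat.card Mb := by
    rw [← hrel]
    exact hCc.symm.index_eq_card.symm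
  have hfbij : Function.Bijective f := (Nat.bijective_iff_injective_and_card f).2 ⟨hfinj, hcard⟩
  let e : C ≃* Mb := MulEquiv.ofBijective f hfbij
  have hCnil : Group.IsNilpotent C := Group.nilpotent_of_mulEquiv e.symm
  have hCu := unique_prime C (N.subgroupOf M)
    (by
      intro h
      rw [Subgroup.subgroupOf_eq_bot] at h
      exact hN (h.eq_bot_of_le hNM))
    (by rw [Subgroup.normalizer_eq_top]; exact le_top) hCnil hfpf
  have hMu : ∀ r : ℕ, r.Prime → ∀ x y : Mb, orderOf x = r → y ^ r = 1 → y ∈ zpowers x := by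
    intro r hr x y hx hy
    have h1 := hCu r hr (e.symm x) (e.symm y) (by rw [MulEquiv.orderOf_eq, hx])
      (by rw [← map_pow, hy, map_one])
    obtain ⟨k, hk⟩ := Subgroup.mem_zpowers_iff.1 h1
    refine Subgroup.mem_zpowers_iff.2 ⟨k, ?_⟩
    have := congrArg e hk
    rwa [map_zpow, MulEquiv.apply_symm_apply, MulEquiv.apply_symm_apply] at this
  -- the order of `Mb` is odd
  have hodd : Odd (Nat.card Mb) := by
    by_contra hev
    rw [Nat.not_odd_iff_even, even_iff_two_dvd] at hev
    have h2 := Fact.mk Nat.prime_two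
    obtain ⟨t, ht⟩ := exists_prime_orderOf_dvd_card' (G := Mb) 2 hev
    have ht' : orderOf (t : Q) = 2 := by rw [Subgroup.orderOf_coe, ht]
    have h3 := hMu 2 Nat.prime_two t ⟨b * t * b⁻¹, hMn.conj_mem _ t.2 b⟩ ht
      (by
        apply Subtype.ext
        have : ((t : Q)) ^ 2 = 1 := by rw [← ht', pow_orderOf_eq_one]
        simp [conj_pow, this])
    obtain ⟨k, hk⟩ := Subgroup.mem_zpowers_iff.1 h3
    have hk' : (t : Q) ^ k = b * t * b⁻¹ := by simpa using congrArg Subtype.val hk
    have ht1 : (t : Q) ≠ 1 := by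
      intro h; rw [h, orderOf_one] at ht'; omega
    have h4 : b * (t : Q) * b⁻¹ = t := by
      rw [← zpow_mod_orderOf, ht'] at hk'
      rcases Int.emod_two_eq_zero_or_one k with h0 | h0
      · exfalso
        have h5 : b * (t : Q) * b⁻¹ = 1 := by
          rw [← hk']
          simp [h0]
        apply ht1
        have : (t : Q) = b⁻¹ * (b * (t : Q) * b⁻¹) * b := by group
        rw [this, h5]; group
      · rw [← hk']
        simp [h0]
    have hcomm : Commute b (t : Q) := mul_inv_eq_iff_eq_mul.1 h4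
    have hb1 : b ≠ 1 := by
      rintro rfl; rw [orderOf_one] at hb; exact hp.one_lt.ne hb
    refine hsQ.not_commute' (x := b) (y := (t : Q)) ?_ (order_mem (A := Aᶜ) hMA t.2) hb1 ht1 hcomm
    intro r hr hd
    rw [hb] at hd
    rwa [(Nat.prime_dvd_prime_iff_eq hr hp).1 hd]
  exact ⟨hodd, OddOrderLocal.NilpotentUnique.isCyclic_of_odd hMu hodd⟩

/-- A normal `A'`-subgroup `M` of a group with an element of prime order in `A` lies in each normal
subgroup with abelian quotient. -/
theorem le_of_fpf {A : Set ℕ} {Q : Type u} [Group Q] [Finite Q] (hs : Spl A Q)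
    (M : Subgroup Q) [M.Normal] (hM : ∀ p : ℕ, p.Prime → p ∣ Nat.card M → p ∉ A)
    {b : Q} (hb1 : b ≠ 1) (hb : ∀ p : ℕ, p.Prime → p ∣ orderOf b → p ∈ A) (K : Subgroup Q) [K.Normal]
    (hK : ∀ x y : Q, ⁅x, y⁆ ∈ K) : M ≤ K := by
  have hfix : ∀ m : M, (b : Q) * m * b⁻¹ = m → m = 1 := by
    intro m hm
    by_contra h1
    refine hs.not_commute' (x := b) (y := (m : Q)) hb
      (order_mem (A := Aᶜ) hM m.2) hb1 (fun h => h1 (Subtype.ext h)) ?_
    exact mul_inv_eq_iff_eq_mul.1 hm
  -- `m ↦ m⁻¹ b m b⁻¹` is injective, hence surjective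
  let f : M → M := fun m => ⟨(m : Q)⁻¹ * (b * m * b⁻¹), mul_mem (inv_mem m.2)
    (‹M.Normal›.conj_mem _ m.2 b)⟩
  have hf : Function.Injective f := by
    intro m n h
    have h1 : (m : Q)⁻¹ * (b * m * b⁻¹) = (n : Q)⁻¹ * (b * n * b⁻¹) := congrArg Subtype.val h
    have h2 : (b : Q) * ((m * n⁻¹ : M) : Q) * b⁻¹ = ((m * n⁻¹ : M) : Q) := by
      have h3 : b * (m : Q) * b⁻¹ = m * ((n : Q)⁻¹ * (b * n * b⁻¹)) := by
        rw [← h1]; group
      calc (b : Q) * ((m * n⁻¹ : M) : Q) * b⁻¹ = (b * m * b⁻¹) * (b * n * b⁻¹)⁻¹ := by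
            push_cast; group
        _ = m * ((n : Q)⁻¹ * (b * n * b⁻¹)) * (b * n * b⁻¹)⁻¹ := by rw [h3]
        _ = _ := by push_cast; group
    exact mul_inv_eq_one.1 (hfix _ h2)
  have hsurj : Function.Surjective f := Finite.injective_iff_surjective.1 hf
  intro m hm
  obtain ⟨n, hn⟩ := hsurj ⟨m, hm⟩
  have h1 : (n : Q)⁻¹ * (b * n * b⁻¹) = m := congrArg Subtype.val hn
  have h2 : ⁅(n : Q)⁻¹, b⁆ = m := by
    rw [← h1, commutatorElement_def]; group
  rw [← h2]
  exact hK _ _

/-- `O_A(X)` is in each normal subgroup whose index is a prime `r ∉ A`. -/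
theorem le_of_index {A : Set ℕ} {X : Type u} [Group X] [Finite X] (N : Subgroup X)
    (hN : ∀ p : ℕ, p.Prime → p ∣ Nat.card N → p ∈ A) (K : Subgroup X) [K.Normal] {r : ℕ}
    (hr : r.Prime) (hrA : r ∉ A) (hK : K.index = r) : N ≤ K := by
  intro x hx
  have h1 : (QuotientGroup.mk x : X ⧸ K) = 1 := by
    rw [← orderOf_eq_one_iff]
    have h2 : orderOf (QuotientGroup.mk x : X ⧸ K) ∣ r := by
      rw [← hK]; exact orderOf_dvd_natCard _
    rcases (Nat.dvd_prime hr).1 h2 with h | h
    · exact h
    · exfalso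
      apply hrA
      apply order_mem hN hx r hr
      rw [← h]
      exact orderOf_map_dvd (QuotientGroup.mk' K) x
  exact (QuotientGroup.eq_one_iff x).1 h1

/-- A quotient of prime order is abelian. -/
theorem commutator_mem_of_index {X : Type u} [Group X] [Finite X] (K : Subgroup X) [K.Normal] {r : ℕ}
    (hr : r.Prime) (hK : K.index = r) (x y : X) : ⁅x, y⁆ ∈ K := by
  have := Fact.mk hr
  have hc : IsCyclic (X ⧸ K) := isCyclic_of_prime_card (p := r) hK
  have h1 : (QuotientGroup.mk ⁅x, y⁆ : X ⧸ K) = 1 := by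
    have : (QuotientGroup.mk ⁅x, y⁆ : X ⧸ K) = ⁅(QuotientGroup.mk x : X ⧸ K), QuotientGroup.mk y⁆ := rfl
    rw [this, commutatorElement_eq_one_iff_commute]
    letI := hc.commGroup
    exact mul_comm _ _
  exact (QuotientGroup.eq_one_iff _).1 h1

end Cfsg.Agent.H466.Split
end

-- part: H466/Socle
section
/-!
# The socle of a group with split element orders and trivial cores
-/

set_option autoImplicit false

namespace Cfsg.Agent.H466.Split

open Subgroup Cfsg

universe u v

/-- cores of normal subgroups -/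
theorem piCore_map_le {A : Set ℕ} {Q : Type u} [Group Q] [Finite Q] (K : Subgroup Q) [K.Normal] :
    (piCore A K).map K.subtype ≤ piCore A Q := by
  have hch := OddOrderLocal.PiCore.piCore_characteristic (G := K) A
  refine OddOrderLocal.PiCore.le_piCore inferInstance ?_
  intro p hp hd
  refine OddOrderLocal.PiCore.piCore_isPi (G := K) A p hp ?_
  rwa [Nat.card_congr ((piCore A K).equivMapOfInjective K.subtype K.subtype_injective).toEquiv.symm] at hd

theorem piCore_eq_bot_of_normal {A : Set ℕ} {Q : Type u} [Group Q] [Finite Q] (K : Subgroup Q)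
    [K.Normal] (h : piCore A Q = ⊥) : piCore A K = ⊥ := by
  have h1 := piCore_map_le (A := A) K
  rw [h, le_bot_iff] at h1
  exact (Subgroup.map_eq_bot_iff_of_injective _ K.subtype_injective).1 h1

theorem exists_minimal_normal {Q : Type u} [Group Q] [Finite Q] [Nontrivial Q] :
    ∃ K : Subgroup Q, K.Normal ∧ K ≠ ⊥ ∧ ∀ L : Subgroup Q, L.Normal → L ≠ ⊥ → L ≤ K → L = K := by
  obtain ⟨K, hK⟩ := Set.Finite.exists_minimal (s := {K : Subgroup Q | K.Normal ∧ K ≠ ⊥}) (Set.toFinite _)
    ⟨⊤, inferInstance, top_ne_bot⟩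
  refine ⟨K, hK.1.1, hK.1.2, fun L hL hL1 hLK => le_antisymm hLK (hK.2 ⟨hL, hL1⟩ hLK)⟩

/-- **The socle.** -/
theorem exists_simple {A : Set ℕ} {Q : Type u} [Group Q] [Finite Q] [Nontrivial Q] (hs : Spl A Q)
    (h2 : 2 ∈ A) (hA : piCore A Q = ⊥) (hA' : piCore Aᶜ Q = ⊥)
    (FT : ∀ (X : Type u) [Group X] [Finite X], Odd (Nat.card X) → Group.IsSolvable X) :
    ∃ K : Subgroup Q, K.Normal ∧ IsSimpleGroup K ∧ 2 ∣ Nat.card K ∧ centralizer (K : Set Q) = ⊥ ∧
      ¬ IsMulCommutative K := by
  obtain ⟨K, hKn, hK1, hKm⟩ := exists_minimal_normal (Q := Q)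
  have hKnt : Nontrivial K := (Subgroup.nontrivial_iff_ne_bot K).2 hK1
  obtain ⟨L, hLn, hL1, hLm⟩ := exists_minimal_normal (Q := K)
  have hLnt : Nontrivial L := (Subgroup.nontrivial_iff_ne_bot L).2 hL1
  have h2p := Fact.mk Nat.prime_two
  have hLeven : 2 ∣ Nat.card L := by
    by_contra h
    have hodd : Odd (Nat.card L) := by
      rw [← Nat.not_even_iff_odd, even_iff_two_dvd]; exact h
    haveI := FT L hodd
    rcases Cfsg.Agent.S3857.exists_core (A := A) (G := L) with h1 | h1
    · exact h1 (piCore_eq_bot_of_normal L (piCore_eq_bot_of_normal K hA))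
    · exact h1 (piCore_eq_bot_of_normal L (piCore_eq_bot_of_normal K hA'))
  -- elements commuting with an involution have order an `A`-number
  have hinv : ∀ t x : Q, orderOf t = 2 → Commute t x → ∀ p : ℕ, p.Prime → p ∣ orderOf x → p ∈ A := by
    intro t x ht hc p hp hd
    by_contra hpA
    exact hs.not_commute Nat.prime_two hp h2 hpA (ht ▸ dvd_rfl) hd (orderOf_pos t).ne'
      (orderOf_pos x).ne' hc
  have hpi : ∀ (R : Subgroup K), R.Normal → R ≠ ⊥ → ∃ x : R, ∃ p : ℕ, p.Prime ∧ orderOf x = p ∧ p ∉ A := by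
    intro R hR hR1
    by_contra hcon
    push Not at hcon
    apply hR1
    have h3 : R ≤ piCore A K := by
      refine OddOrderLocal.PiCore.le_piCore hR ?_
      intro p hp hd
      have := Fact.mk hp
      obtain ⟨x, hx⟩ := exists_prime_orderOf_dvd_card' (G := R) p hd
      exact hcon x p hp hx
    rw [piCore_eq_bot_of_normal K hA, le_bot_iff] at h3
    exact h3
  -- `L` is invariant
  have hLinv : ∀ g : Q, L.map (MulAut.conjNormal g : MulAut K).toMonoidHom = L := by
    intro g
    set L' := L.map (MulAut.conjNormal g : MulAut K).toMonoidHom with hL'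
    have hL'n : L'.Normal := hLn.map _ (MulAut.conjNormal g : MulAut K).surjective
    have hcard : Nat.card L' = Nat.card L :=
      (Nat.card_congr (L.equivMapOfInjective _ (MulAut.conjNormal g : MulAut K).injective).toEquiv).symm
    by_cases hI : L ⊓ L' = ⊥
    · exfalso
      obtain ⟨t, ht⟩ := exists_prime_orderOf_dvd_card' (G := L') 2 (hcard ▸ hLeven)
      obtain ⟨x, p, hp, hx, hpA⟩ := hpi L hLn hL1
      apply hpA
      have hcomm : Commute ((t : K) : Q) ((x : K) : Q) := by
        have := Subgroup.commute_of_normal_of_disjoint L' L hL'n hLn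
          (disjoint_iff.2 (by rw [inf_comm]; exact hI)) (t : K) (x : K) t.2 x.2
        exact this.map K.subtype
      refine hinv ((t : K) : Q) ((x : K) : Q) ?_ hcomm p hp ?_
      · rw [Subgroup.orderOf_coe, Subgroup.orderOf_coe, ht]
      · rw [Subgroup.orderOf_coe, Subgroup.orderOf_coe, hx]
    · have h3 : L ⊓ L' = L := hLm _ inferInstance hI inf_le_left
      have h4 : L ≤ L' := inf_eq_left.1 h3
      exact (Subgroup.eq_of_le_of_card_ge h4 hcard.le).symm
  have hLQ : (L.map K.subtype).Normal := by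
    constructor
    rintro _ ⟨x, hx, rfl⟩ g
    have h3 : (MulAut.conjNormal g : MulAut K) x ∈ L := by
      rw [← hLinv g]
      exact ⟨x, hx, rfl⟩
    refine ⟨_, h3, ?_⟩
    exact MulAut.conjNormal_apply g x
  have hLK : L.map K.subtype = K := by
    refine hKm _ hLQ ?_ ?_
    · intro h
      exact hL1 ((Subgroup.map_eq_bot_iff_of_injective _ K.subtype_injective).1 h)
    · rintro _ ⟨x, -, rfl⟩
      exact x.2
  have hLtop : L = ⊤ := by
    rw [eq_top_iff]
    intro x _
    have h3 : (x : Q) ∈ L.map K.subtype := by rw [hLK]; exact x.2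
    obtain ⟨y, hy, hyx⟩ := h3
    have : y = x := Subtype.ext hyx
    rwa [← this]
  have hsimple : IsSimpleGroup K := by
    refine ⟨fun R hR => ?_⟩
    by_cases h3 : R = ⊥
    · exact Or.inl h3
    · right
      have := hLm R hR h3 (by rw [hLtop]; exact le_top)
      rw [this, hLtop]
  have hKeven : 2 ∣ Nat.card K := by
    rw [hLtop, Subgroup.card_top] at hLeven
    exact hLeven
  have hcent : centralizer (K : Set Q) = ⊥ := by
    have h3 : centralizer (K : Set Q) ≤ piCore A Q := by
      refine OddOrderLocal.PiCore.le_piCore inferInstance ?_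
      intro p hp hd
      have := Fact.mk hp
      obtain ⟨x, hx⟩ := exists_prime_orderOf_dvd_card' (G := centralizer (K : Set Q)) p hd
      obtain ⟨t, ht⟩ := exists_prime_orderOf_dvd_card' (G := K) 2 hKeven
      refine hinv (t : Q) (x : Q) (by rw [Subgroup.orderOf_coe, ht]) ?_ p hp ?_
      · exact Subgroup.mem_centralizer_iff.1 x.2 t t.2
      · rw [Subgroup.orderOf_coe, hx]
    rw [hA, le_bot_iff] at h3
    exact h3
  refine ⟨K, hKn, hsimple, hKeven, hcent, ?_⟩
  intro hc
  apply hK1
  rw [eq_bot_iff, ← hcent]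
  intro x hx
  rw [Subgroup.mem_centralizer_iff]
  intro y hy
  exact congrArg Subtype.val (hc.is_comm.comm (⟨y, hy⟩ : K) ⟨x, hx⟩)

end Cfsg.Agent.H466.Split
end

-- part: H466/Local
section
/-!
# Local analysis in groups with split element orders

`TP A Y`: `O_A(Y) ≠ 1` and `Y / O_A(Y)` is an `A'`-group.
-/

set_option autoImplicit false

namespace Cfsg.Agent.H466.Split

open Subgroup Cfsg

universe u v

/-- `O_A(Y) ≠ 1` and `Y / O_A(Y)` is an `A'`-group. -/
def TP (A : Set ℕ) (Y : Type u) [Group Y] : Prop :=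
  piCore A Y ≠ ⊥ ∧ ∀ q : ℕ, q.Prime → q ∣ (piCore A Y).index → q ∉ A

theorem TP.mem {A : Set ℕ} {Y : Type u} [Group Y] [Finite Y] (h : TP A Y) {x : Y}
    (hx : ∀ p : ℕ, p.Prime → p ∣ orderOf x → p ∈ A) : x ∈ piCore A Y := by
  have hn : (piCore A Y).Normal := by
    have := OddOrderLocal.PiCore.piCore_characteristic (G := Y) A
    infer_instance
  have h1 : (QuotientGroup.mk x : Y ⧸ piCore A Y) = 1 := by
    refine eq_one_of_both (A := A) ?_ ?_
    · intro p hp hd
      exact hx p hp (hd.trans (orderOf_map_dvd (QuotientGroup.mk' (piCore A Y)) x))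
    · intro p hp hd
      exact h.2 p hp (hd.trans (orderOf_dvd_natCard _))
  exact (QuotientGroup.eq_one_iff x).1 h1

/-- Under `TP`, if some prime `r ∉ A` divides the order, then involutions centralize normal
`p`-subgroups, `p` odd. -/
theorem TP.commute {A : Set ℕ} {Y : Type u} [Group Y] [Finite Y] (h : TP A Y) (hs : Spl A Y)
    {r : ℕ} (hr : r.Prime) (hrA : r ∉ A) (hrY : r ∣ Nat.card Y) (h2 : 2 ∈ A) {p : ℕ} (hp : p.Prime)
    (hp2 : p ≠ 2) (V : Subgroup Y) (hVn : V.Normal) (hV : IsPGroup p V) (hV1 : V ≠ ⊥) {t : Y}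
    (ht : orderOf t = 2) {v : Y} (hv : v ∈ V) : Commute t v := by
  have := Fact.mk hr
  have := Fact.mk hp
  have hn : (piCore A Y).Normal := by
    have := OddOrderLocal.PiCore.piCore_characteristic (G := Y) A
    infer_instance
  have hNA : ∀ q : ℕ, q.Prime → q ∣ Nat.card (piCore A Y) → q ∈ A :=
    OddOrderLocal.PiCore.piCore_isPi A
  obtain ⟨b, hb⟩ := exists_prime_orderOf_dvd_card' (G := Y) r hrY
  have hnil : Group.IsNilpotent (piCore A Y) :=
    nilpotent_of_prime hs.compl (piCore A Y) (fun q hq hd hqA => hqA (hNA q hq hd)) hr hrA hb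
  have htN : t ∈ piCore A Y := by
    apply h.mem
    intro q hq hd
    rw [ht] at hd
    rwa [(Nat.prime_dvd_prime_iff_eq hq Nat.prime_two).1 hd]
  have hVcard : ∀ q : ℕ, q.Prime → q ∣ Nat.card V → q = p := by
    intro q hq hd
    obtain ⟨n, hn⟩ := IsPGroup.iff_card.1 hV
    rw [hn] at hd
    exact (Nat.prime_dvd_prime_iff_eq hq hp).1 (hq.dvd_of_dvd_pow hd)
  by_cases hpA : p ∈ A
  · have hVN : V ≤ piCore A Y := by
      refine OddOrderLocal.PiCore.le_piCore hVn ?_
      intro q hq hd
      rw [hVcard q hq hd]; exact hpA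
    refine OddOrderLocal.CNBasic.commute_of_mem_of_coprime hnil htN (hVN hv) ?_
    rw [ht]
    obtain ⟨k, hk⟩ := hV ⟨v, hv⟩
    have hk' : v ^ p ^ k = 1 := by simpa using congrArg Subtype.val hk
    have h3 : orderOf v ∣ p ^ k := orderOf_dvd_of_pow_eq_one hk'
    exact Nat.Coprime.coprime_dvd_right h3
      (Nat.Coprime.pow_right k ((Nat.coprime_primes Nat.prime_two hp).2 (Ne.symm hp2)))
  · exfalso
    obtain ⟨n, hn1, hn2⟩ := (piCore A Y).bot_or_exists_ne_one.resolve_left h.1
    obtain ⟨w, hw1, hw2⟩ := V.bot_or_exists_ne_one.resolve_left hV1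
    have hwp : ∀ q : ℕ, q.Prime → q ∣ orderOf w → q ∉ A := by
      intro q hq hd
      rw [hVcard q hq (hd.trans (Subgroup.orderOf_dvd_natCard V hw1))]
      exact hpA
    have hdis : Disjoint (piCore A Y) V := by
      rw [disjoint_iff, eq_bot_iff]
      rintro x ⟨hx1, hx2⟩
      rw [Subgroup.mem_bot]
      refine eq_one_of_both (A := A) (order_mem hNA hx1) ?_
      intro q hq hd
      rw [hVcard q hq (hd.trans (Subgroup.orderOf_dvd_natCard V hx2))]
      exact hpA
    exact hs.not_commute' (order_mem hNA hn1) hwp hn2 hw2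
      (Subgroup.commute_of_normal_of_disjoint _ _ hn hVn hdis n w hn1 hw1)

end Cfsg.Agent.H466.Split
end

-- part: H466/LieCase
section
/-!
# Groups with split element orders: the socle of Lie type

`X` has a normal subgroup `K'` of prime index `r ∉ π` containing the simple group `K` with a split
(B,N)-pair of characteristic `p` and `C_X(K) = 1`, all proper subgroups of even order not contained
in `K'` satisfy `TP`.  This is impossible.
-/

set_option autoImplicit false
set_option linter.unusedSectionVars false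

namespace Cfsg.Agent.H466.LieCase

open Subgroup Cfsg.Agent.H466.Split
open Cfsg.Agent.Tits.Core Cfsg.Agent.Tits.Core.Bldg Cfsg.Agent.Tits.OfBN
  Cfsg.Agent.Schreier.BNSch Cfsg.Agent.FixBN Cfsg.Agent.FixBN.Cox Cfsg.Agent.Omega.ML.LieRow
  Cfsg.Agent.UGT.U2.FOne

universe u

section Building

variable {I : Type*} {M : CoxeterMatrix I} {W : Type*} [Group W] {cs : CoxeterSystem M W} {C : Type*}
  {Δ : Bldg cs C}

variable {X : Type u} [Group X] {K : Subgroup X} [MulAction K C] (A : HAct Δ K)
  [F : Tits.OppRes.Cox cs] [Finite W] {p : ℕ} (S : Sys Δ K p)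

include A in
theorem θ_conj [K.Normal] (h : X) (k : K) (x : C) :
    A.θ h (k • x) = MulAut.conjNormal h k • A.θ h x := by
  rw [← A.θ_K, ← A.θ_K, ← A.θ_mul, ← A.θ_mul, MulAut.conjNormal_apply]
  congr 1
  group

include A in
theorem conj_mem_U [K.Normal] (h : X) {k : K} {x : C} (hk : k ∈ S.U x) :
    MulAut.conjNormal h k ∈ S.U (A.θ h x) := by
  have h1 : IsPGroup p ((S.U x).map (MulAut.conjNormal h : MulAut K).toMonoidHom) := (S.isP x).map _
  refine S.max _ _ h1 ?_ (Subgroup.mem_map_of_mem _ hk)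
  rintro _ ⟨v, hv, rfl⟩
  change MulAut.conjNormal h v • A.θ h x = A.θ h x
  rw [← θ_conj A, S.fix x v hv]

include A S in
/-- `K` is transitive on the pairs of opposite chambers, so each element of `X` acts on such a pair
as an element of `K`. -/
theorem exists_k [K.Normal] [Nonempty C] (hth : Δ.Thick) {x z : C} (h : Δ.Opp x z) (g : X) :
    ∃ k : K, k • x = A.θ g x ∧ k • z = A.θ g z := by
  obtain ⟨k₁, hk₁⟩ := exists_smul_top S hth x (A.θ g x)
  have h1 : Δ.Opp (A.θ g x) (A.θ g z) := by
    show Δ.δ _ _ = _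
    rw [A.δ_θ, show Δ.δ x z = w0 cs from h, A.φ_w0]
  have h2 : Δ.Opp (A.θ g x) (k₁ • z) := by
    show Δ.δ _ _ = _
    rw [← hk₁, S.iso]; exact h
  obtain ⟨u, hu, huz⟩ := S.trans _ _ _ h2 h1
  refine ⟨u * k₁, ?_, ?_⟩
  · rw [mul_smul, hk₁]; exact S.fix _ u hu
  · rw [mul_smul, huz]

include S in
theorem exists_k' {x z x' z' : C} (hth : Δ.Thick) (h : Δ.Opp x z) (h' : Δ.Opp x' z') :
    ∃ k : K, k • x = x' ∧ k • z = z' := by
  obtain ⟨k₁, hk₁⟩ := exists_smul_top S hth x x'
  have h2 : Δ.Opp x' (k₁ • z) := by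
    show Δ.δ _ _ = _
    rw [← hk₁, S.iso]; exact h
  obtain ⟨u, hu, huz⟩ := S.trans _ _ _ h2 h'
  refine ⟨u * k₁, ?_, ?_⟩
  · rw [mul_smul, hk₁]; exact S.fix _ u hu
  · rw [mul_smul, huz]

include S in
/-- Two opposite groups `U` generate `K`. -/
theorem sup_eq_top (hth : Δ.Thick) [hs : IsSimpleGroup K] [Nonempty I] {x z : C} (h : Δ.Opp x z) :
    S.U x ⊔ S.U z = ⊤ := by
  refine eq_top_of_tp S hth (c := x) le_sup_left ?_
  rw [Set.eq_univ_iff_forall]
  intro i
  -- a chamber of the panel, different from `x`, opposite `z`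
  obtain ⟨e, he, -, hopp⟩ := Tits.Opp.exists_nonopp Δ (Tits.Opp.opp_symm Δ h) i
  obtain ⟨a, b, hab, ha, hb⟩ := hth x i
  obtain ⟨y, hy, hye⟩ : ∃ y, Δ.δ x y = cs.simple i ∧ y ≠ e := by
    by_cases h1 : a = e
    · exact ⟨b, hb, fun h2 => hab (h1.trans h2.symm)⟩
    · exact ⟨a, ha, h1⟩
  obtain ⟨u, hu, hux⟩ := S.trans z x y (Tits.Opp.opp_symm Δ h) (hopp y hy hye)
  exact ⟨u, Subgroup.mem_sup_right hu, by rw [hux]; exact hy⟩

/-- the stabilizer of a chamber in `X` -/
def stab (A : HAct Δ K) (x : C) : Subgroup X where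
  carrier := {g | A.θ g x = x}
  one_mem' := A.θ_one x
  mul_mem' := by
    intro g h hg hh
    show A.θ (g * h) x = x
    rw [A.θ_mul]
    rw [show A.θ h x = x from hh]
    exact hg
  inv_mem' := by
    intro g hg
    show A.θ g⁻¹ x = x
    have : A.θ g⁻¹ (A.θ g x) = x := A.θ_inv_θ g x
    rwa [show A.θ g x = x from hg] at this

theorem mem_stab {x : C} {g : X} : g ∈ stab A x ↔ A.θ g x = x := Iff.rfl

variable [Finite X] [K.Normal] [Fact p.Prime]

include A in
/-- **The stabilizer of a chamber**: involutions centralize `U x`. -/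
theorem commute_U [Finite C] (hth : Δ.Thick) [Nonempty I] {π : Set ℕ} (hsp : Spl π X) (h2 : 2 ∈ π) {r : ℕ}
    (hr : r.Prime) (hrA : r ∉ π) (K' : Subgroup X) [K'.Normal] (hKK' : K ≤ K') (hidx : K'.index = r)
    (IH : ∀ Y : Subgroup X, Y ≠ ⊤ → 2 ∣ Nat.card Y → ¬ Y ≤ K' → TP π Y) (hp2 : p ≠ 2) (x : C) (t : K)
    (ht : orderOf t = 2) (htx : t • x = x) (u : K) (hu : u ∈ S.U x) : Commute t u := by
  have := Fact.mk hr
  have hp : p.Prime := Fact.out
  set Y := stab A x with hY
  have htY : (t : X) ∈ Y := by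
    rw [hY, mem_stab, A.θ_K]; exact htx
  -- `Y` is proper
  obtain ⟨i⟩ := (inferInstance : Nonempty I)
  obtain ⟨a, b, hab, ha, hb⟩ := hth x i
  have hYt : Y ≠ ⊤ := by
    intro h
    obtain ⟨k, hk⟩ := exists_smul_top S hth x a
    have h1 : (k : X) ∈ Y := by rw [h]; trivial
    rw [hY, mem_stab, A.θ_K, hk] at h1
    obtain ⟨v, hv, hvne⟩ := exists_move_adj S hth ha
    apply hvne
    rw [h1]
    exact S.fix x v hv
  have hYK : ∀ g : X, ∃ k : K, ∃ y ∈ Y, g = k * y := by
    intro g
    obtain ⟨k, hk⟩ := exists_smul_top S hth x (A.θ g x)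
    refine ⟨k, (k : X)⁻¹ * g, ?_, by group⟩
    rw [hY, mem_stab, A.θ_mul, ← hk]
    have : A.θ (k : X)⁻¹ (A.θ k x) = x := A.θ_inv_θ _ _
    rwa [A.θ_K] at this
  have hK't : K' ≠ ⊤ := by
    intro h
    rw [h, Subgroup.index_top] at hidx
    exact hr.one_lt.ne hidx
  have hYK' : ¬ Y ≤ K' := by
    intro h
    apply hK't
    rw [eq_top_iff]
    intro g _
    obtain ⟨k, y, hy, rfl⟩ := hYK g
    exact mul_mem (hKK' k.2) (h hy)
  have hY2 : 2 ∣ Nat.card Y := by
    have h1 : orderOf (⟨t, htY⟩ : Y) = 2 := by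
      rw [← Subgroup.orderOf_coe]
      show orderOf (t : X) = 2
      rw [Subgroup.orderOf_coe, ht]
    rw [← h1]; exact orderOf_dvd_natCard _
  have hTP := IH Y hYt hY2 hYK'
  have hrY : r ∣ Nat.card Y := by
    have h1 : (K'.subgroupOf Y).index = r := by
      have h3 : K'.relIndex Y ∣ r := by
        rw [← hidx]; exact Subgroup.relIndex_dvd_index_of_normal K' Y
      rcases (Nat.dvd_prime hr).1 h3 with h | h
      · exfalso
        exact hYK' (Subgroup.relIndex_eq_one.1 h)
      · exact h
    rw [← h1]; exact Subgroup.index_dvd_card _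
  -- the normal subgroup `U x` of `Y`
  let V : Subgroup Y := ((S.U x).map K.subtype).subgroupOf Y
  have hUY : (S.U x).map K.subtype ≤ Y := by
    rintro _ ⟨v, hv, rfl⟩
    rw [hY, mem_stab]
    show A.θ (v : X) x = x
    rw [A.θ_K]; exact S.fix x v hv
  have hVn : V.Normal := by
    constructor
    rintro v hv y
    rw [Subgroup.mem_subgroupOf] at hv ⊢
    obtain ⟨v', hv', hvv⟩ := hv
    refine ⟨MulAut.conjNormal (y : X) v', ?_, ?_⟩
    · have h1 := conj_mem_U A S (y : X) hv'
      rwa [show A.θ (y : X) x = x from y.2] at h1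
    · show ((MulAut.conjNormal (y : X) v' : K) : X) = _
      rw [MulAut.conjNormal_apply]
      have : (v' : X) = (v : X) := hvv
      rw [this]; rfl
  have hVp : IsPGroup p V := by
    have h1 : IsPGroup p ((S.U x).map K.subtype) := (S.isP x).map _
    exact h1.comap_of_injective _ Y.subtype_injective
  have hV1 : V ≠ ⊥ := by
    obtain ⟨v, hv, hvne⟩ := exists_move_adj S hth ha
    intro h
    have h1 : (⟨(v : X), hUY ⟨v, hv, rfl⟩⟩ : Y) ∈ V := ⟨v, hv, rfl⟩
    rw [h, Subgroup.mem_bot] at h1
    have h3 : v = 1 := by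
      have h4 : ((⟨(v : X), hUY ⟨v, hv, rfl⟩⟩ : Y) : X) = 1 := by rw [h1]; rfl
      exact Subtype.ext h4
    apply hvne
    rw [h3, one_smul]
  have hcomm := hTP.commute (hsp.subgroup Y) hr hrA hrY h2 hp hp2 V hVn hVp hV1
    (t := ⟨(t : X), htY⟩) (by
      rw [← Subgroup.orderOf_coe]
      show orderOf (t : X) = 2
      rw [Subgroup.orderOf_coe, ht])
    (v := ⟨(u : X), hUY ⟨u, hu, rfl⟩⟩) ⟨u, hu, rfl⟩
  have h3 := congrArg Subtype.val hcomm.eq
  exact Subtype.ext h3

include A S in
/-- **The Lie type case.** -/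
theorem false_of_hact [Finite C] [Nonempty C] (hth : Δ.Thick) [Nonempty I] [hsim : IsSimpleGroup K]
    (hC : centralizer (K : Set X) = ⊥) {π : Set ℕ} (hsp : Spl π X) (h2 : 2 ∈ π) {r : ℕ}
    (hr : r.Prime) (hrA : r ∉ π) (K' : Subgroup X) [K'.Normal] (hKK' : K ≤ K') (hidx : K'.index = r)
    (IH : ∀ Y : Subgroup X, Y ≠ ⊤ → 2 ∣ Nat.card Y → ¬ Y ≤ K' → TP π Y) : False := by
  obtain ⟨x⟩ := (inferInstance : Nonempty C)
  obtain ⟨z, hxz⟩ := Tits.Opp.exists_opp Δ x
  have hzx : Δ.Opp z x := Tits.Opp.opp_symm Δ hxz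
  have hp : p.Prime := Fact.out
  by_cases hinv : ∃ t : K, orderOf t = 2 ∧ t • x = x ∧ t • z = z
  · obtain ⟨t, ht, htx, htz⟩ := hinv
    by_cases hp2 : p = 2
    · subst hp2
      -- `t ∈ U x`
      have h1 : zpowers t ≤ S.U x := by
        refine S.max x _ ?_ ?_
        · rw [IsPGroup.iff_card]
          exact ⟨1, by rw [Nat.card_zpowers, ht, pow_one]⟩
        · intro v hv
          obtain ⟨k, rfl⟩ := Subgroup.mem_zpowers_iff.1 hv
          have h3 : t ∈ MulAction.stabilizer K x := htx
          exact zpow_mem h3 k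
      have h3 := S.free x z hxz t (h1 (mem_zpowers t)) htz
      rw [h3, orderOf_one] at ht
      omega
    · have hcx := commute_U A S hth hsp h2 hr hrA K' hKK' hidx IH hp2 x t ht htx
      have hcz := commute_U A S hth hsp h2 hr hrA K' hKK' hidx IH hp2 z t ht htz
      have h1 : S.U x ⊔ S.U z ≤ centralizer {t} := by
        refine sup_le ?_ ?_
        · intro u hu
          rw [Subgroup.mem_centralizer_singleton_iff]
          exact (hcx u hu).eq.symm
        · intro u hu
          rw [Subgroup.mem_centralizer_singleton_iff]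
          exact (hcz u hu).eq.symm
      rw [sup_eq_top S hth hxz] at h1
      have h3 : (t : X) ∈ centralizer (K : Set X) := by
        rw [Subgroup.mem_centralizer_iff]
        intro k hk
        have h4 := Subgroup.mem_centralizer_singleton_iff.1 (h1 (Subgroup.mem_top (⟨k, hk⟩ : K)))
        exact congrArg Subtype.val h4
      rw [hC, Subgroup.mem_bot] at h3
      have h4 : t = 1 := Subtype.ext h3
      rw [h4, orderOf_one] at ht
      omega
  · push Not at hinv
    -- the stabilizer in `K` of both chambers has odd order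
    have hDodd : ∀ d : K, d • x = x → d • z = z → Odd (orderOf d) := by
      intro d hdx hdz
      by_contra hev
      rw [Nat.not_odd_iff_even, even_iff_two_dvd] at hev
      obtain ⟨m, hm⟩ := hev
      have hm0 : m ≠ 0 := by
        rintro rfl
        exact (orderOf_pos d).ne' (by simpa using hm)
      have h1 : orderOf (d ^ m) = 2 := by
        rw [orderOf_pow_of_dvd hm0 (hm ▸ Dvd.intro_left 2 rfl), hm,
          Nat.mul_div_cancel _ (Nat.pos_of_ne_zero hm0)]
      have h3 : d ∈ MulAction.stabilizer K x := hdx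
      have h4 : d ∈ MulAction.stabilizer K z := hdz
      exact hinv (d ^ m) h1 (pow_mem h3 m) (pow_mem h4 m)
    -- an element interchanging the two chambers
    obtain ⟨k₀, hk₀x, hk₀z⟩ := exists_k' S hth hxz hzx
    have hxzne : x ≠ z := by
      intro h
      obtain ⟨i⟩ := (inferInstance : Nonempty I)
      obtain ⟨a, b, hab, ha, hb⟩ := hth x i
      obtain ⟨v, hv, hvne⟩ := exists_move_adj S hth ha
      have h3 : v = 1 := S.free x z hxz v hv (by rw [← h]; exact S.fix x v hv)
      apply hvne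
      rw [h3, one_smul]
    have hsq : ∀ k : K, k • x = z → k • z = x → Odd (orderOf (k * k)) := by
      intro k h1 h3
      exact hDodd _ (by rw [mul_smul, h1, h3]) (by rw [mul_smul, h3, h1])
    -- an involution interchanging them
    obtain ⟨t, ht1, ht2, htx, htz⟩ : ∃ t : K, t ≠ 1 ∧ t * t = 1 ∧ t • x = z ∧ t • z = x := by
      obtain ⟨m, hm⟩ := hsq k₀ hk₀x hk₀z
      have h1 : (k₀ * k₀) ^ (2 * m + 1) = 1 := by rw [← hm, pow_orderOf_eq_one]
      have h3 : k₀ * k₀ ∈ MulAction.stabilizer K x := by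
        show (k₀ * k₀) • x = x
        rw [mul_smul, hk₀x, hk₀z]
      have h4 : k₀ * k₀ ∈ MulAction.stabilizer K z := by
        show (k₀ * k₀) • z = z
        rw [mul_smul, hk₀z, hk₀x]
      have e : k₀ ^ (2 * m + 1) = k₀ * (k₀ * k₀) ^ m := by
        rw [pow_succ', ← pow_two, ← pow_mul]
      have hx' : k₀ ^ (2 * m + 1) • x = z := by
        rw [e, mul_smul, show (k₀ * k₀) ^ m • x = x from pow_mem h3 m, hk₀x]
      have hz' : k₀ ^ (2 * m + 1) • z = x := by
        rw [e, mul_smul, show (k₀ * k₀) ^ m • z = z from pow_mem h4 m, hk₀z]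
      refine ⟨k₀ ^ (2 * m + 1), ?_, ?_, hx', hz'⟩
      · intro h
        apply hxzne
        rw [h, one_smul] at hx'
        exact hx'
      · rw [← pow_two, ← pow_mul, mul_comm, pow_mul, pow_two]
        exact h1
    -- an element outside `K'` fixing both chambers
    have hK't : K' ≠ ⊤ := by
      intro h
      rw [h, Subgroup.index_top] at hidx
      exact hr.one_lt.ne hidx
    obtain ⟨g, hg⟩ : ∃ g : X, g ∉ K' := by
      by_contra hcon
      push Not at hcon
      exact hK't ((Subgroup.eq_top_iff' K').2 hcon)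
    obtain ⟨k, hkx, hkz⟩ := exists_k A S hth hxz g
    set y : X := (k : X)⁻¹ * g with hy
    have hyx : A.θ y x = x := by
      rw [hy, A.θ_mul, ← hkx]
      have : A.θ (k : X)⁻¹ (A.θ k x) = x := A.θ_inv_θ _ _
      rwa [A.θ_K] at this
    have hyz : A.θ y z = z := by
      rw [hy, A.θ_mul, ← hkz]
      have : A.θ (k : X)⁻¹ (A.θ k z) = z := A.θ_inv_θ _ _
      rwa [A.θ_K] at this
    have hyK' : y ∉ K' := by
      intro h
      apply hg
      have : g = (k : X) * y := by rw [hy]; group
      rw [this]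
      exact mul_mem (hKK' k.2) h
    -- the conjugate of `t`
    set s : K := MulAut.conjNormal y t with hs
    have hsx : s • x = z := by
      have h1 := θ_conj A y t x
      rw [htx, hyx, hyz] at h1
      exact h1.symm
    have hsz : s • z = x := by
      have h1 := θ_conj A y t z
      rw [htz, hyx, hyz] at h1
      exact h1.symm
    have hs2 : s * s = 1 := by rw [hs, ← map_mul, ht2, map_one]
    set c : K := t * s with hc
    have hcodd : Odd (orderOf c) := hDodd c (by rw [hc, mul_smul, hsx, htz])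
      (by rw [hc, mul_smul, hsz, htx])
    obtain ⟨m, hm⟩ := hcodd
    set e : K := c ^ (m + 1) with he
    have hee : e * e = c := by
      rw [he, ← pow_add]
      have : m + 1 + (m + 1) = (2 * m + 1) + 1 := by ring
      rw [this, pow_succ, ← hm, pow_orderOf_eq_one, one_mul]
    have htinv : t⁻¹ = t := by
      rw [inv_eq_iff_mul_eq_one]; exact ht2
    have hsinv : s⁻¹ = s := by
      rw [inv_eq_iff_mul_eq_one]; exact hs2
    -- `t c t = c⁻¹`, hence `t e t = e⁻¹`
    have htc : t * c * t⁻¹ = c⁻¹ := by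
      rw [hc, mul_inv_rev, htinv, hsinv, ← mul_assoc, ht2, one_mul]
    have hte : t * e * t⁻¹ = e⁻¹ := by
      rw [he, ← conj_pow, htc, inv_pow]
    -- `e s e⁻¹ = t`
    have hes : e * s * e⁻¹ = t := by
      have h1 : s = t * c := by rw [hc, ← mul_assoc, ht2, one_mul]
      have h3 : e * t = t * e⁻¹ := by
        rw [← hte]
        calc e * t = t * t * e * t := by rw [ht2, one_mul]
          _ = t * (t * e * t⁻¹) := by rw [htinv]; group
      calc e * s * e⁻¹ = (e * t) * c * e⁻¹ := by rw [h1]; group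
        _ = t * e⁻¹ * (e * e) * e⁻¹ := by rw [h3, hee]
        _ = t := by group
    -- `w = e y` centralizes `t`
    set w : X := (e : X) * y with hw
    have hwt : w * t * w⁻¹ = t := by
      have h1 : (s : X) = y * t * y⁻¹ := by rw [hs, MulAut.conjNormal_apply]
      have h3 : (e : X) * s * (e : X)⁻¹ = t := by
        have := congrArg Subtype.val hes
        simpa using this
      rw [hw]
      calc (e : X) * y * t * ((e : X) * y)⁻¹ = e * (y * t * y⁻¹) * (e : X)⁻¹ := by group
        _ = t := by rw [← h1, h3]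
    have hwK' : w ∉ K' := by
      intro h
      apply hyK'
      have : y = (e : X)⁻¹ * w := by rw [hw]; group
      rw [this]
      exact mul_mem (inv_mem (hKK' e.2)) h
    -- `r` divides the order of `w`
    have hrw : r ∣ orderOf w := by
      have h1 : orderOf (QuotientGroup.mk w : X ⧸ K') ∣ r := by
        rw [← hidx]; exact orderOf_dvd_natCard _
      rcases (Nat.dvd_prime hr).1 h1 with h | h
      · exfalso
        rw [orderOf_eq_one_iff] at h
        exact hwK' ((QuotientGroup.eq_one_iff w).1 h)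
      · rw [← h]
        exact orderOf_map_dvd (QuotientGroup.mk' K') w
    have ht2' : orderOf (t : X) = 2 := by
      rw [Subgroup.orderOf_coe]
      exact orderOf_eq_prime (by rw [pow_two]; exact ht2) ht1
    have hcomm : Commute (t : X) w := by
      have := mul_inv_eq_iff_eq_mul.1 hwt
      exact this.symm
    exact hsp.not_commute Nat.prime_two hr h2 hrA (ht2' ▸ dvd_rfl) hrw (orderOf_pos _).ne'
      (orderOf_pos _).ne' hcomm

end Building

/-- **The Lie type case.** -/
theorem false_of_hasSplit {X : Type u} [Group X] [Finite X] {K : Subgroup X} [K.Normal]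
    [hsim : IsSimpleGroup K] {p : ℕ} [Fact p.Prime] (h : HasSplit p K)
    (hC : centralizer (K : Set X) = ⊥) {π : Set ℕ} (hsp : Spl π X) (h2 : 2 ∈ π) {r : ℕ}
    (hr : r.Prime) (hrA : r ∉ π) (K' : Subgroup X) [K'.Normal] (hKK' : K ≤ K') (hidx : K'.index = r)
    (IH : ∀ Y : Subgroup X, Y ≠ ⊤ → 2 ∣ Nat.card Y → ¬ Y ≤ K' → TP π Y) : False := by
  obtain ⟨P, U, hne, h⟩ := h
  have hN : ((P.B ⊓ P.N).subgroupOf P.N).Normal := normal_subgroupOf P
  obtain ⟨M, cs, hcs⟩ := Cfsg.Agent.S0320.result P
  have hI : Finite P.S := OfBN.finite_I (Equiv.refl P.S)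
  have hIn : Nonempty P.S := hne.to_subtype
  have S := OfBN.sys (Equiv.refl P.S) cs hcs h
  have hth := thick P (Equiv.refl P.S) cs hcs
  obtain ⟨A⟩ := exists_hact S hth (fun τ => UGT.U2.FOne.exists_mv h (Equiv.refl P.S) cs hcs τ)
  exact false_of_hact A S hth hC hsp h2 hr hrA K' hKK' hidx IH

end Cfsg.Agent.H466.LieCase
end

-- part: H466/ThmT
section
/-!
# Theorem T

`X` finite of even order, the element orders of `X` split along `A ∋ 2`, `K ⊴ X` of prime index
`r ∉ A`.  Then `O_A(X) ≠ 1` and `X / O_A(X)` is an `A'`-group.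
-/

set_option autoImplicit false

namespace Cfsg.Agent.H466.Split

open Subgroup Cfsg
open scoped commutatorElement

universe u

/-- Automorphisms of odd order are inner. -/
def OddInner (K : Type u) [Group K] : Prop :=
  ∀ φ : MulAut K, Odd (orderOf φ) → ∃ k : K, φ = MulAut.conj k

/-- `K` has a split (B,N)-pair, or the automorphisms of odd order are inner. -/
def Ok (K : Type u) [Group K] : Prop :=
  (∃ p : ℕ, p.Prime ∧ Cfsg.Agent.FixBN.HasSplit p K) ∨ OddInner K

/-- The feit-Thompson theorem -/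
def FTh : Prop := ∀ (X : Type u) [Group X] [Finite X], Odd (Nat.card X) → Group.IsSolvable X

/-- The known simple groups satisfy `Ok` -/
def AllOk : Prop := ∀ (K : Type u) [Group K] [Finite K], IsSimpleGroup K → ¬ IsMulCommutative K → Ok K

theorem index_map_mk' {X : Type u} [Group X] (N K : Subgroup X) [N.Normal] (h : N ≤ K) :
    (K.map (QuotientGroup.mk' N)).index = K.index := by
  rw [Subgroup.index_map, QuotientGroup.ker_mk', sup_eq_left.2 h,
    MonoidHom.range_eq_top.2 (QuotientGroup.mk'_surjective N), Subgroup.index_top, mul_one]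

theorem relIndex_eq_of_prime {X : Type u} [Group X] [Finite X] (K Y : Subgroup X) [K.Normal] {r : ℕ}
    (hr : r.Prime) (hK : K.index = r) (hY : ¬ Y ≤ K) : (K.subgroupOf Y).index = r := by
  have h3 : K.relIndex Y ∣ r := by
    rw [← hK]; exact Subgroup.relIndex_dvd_index_of_normal K Y
  rcases (Nat.dvd_prime hr).1 h3 with h | h
  · exact absurd (Subgroup.relIndex_eq_one.1 h) hY
  · exact h

/-- An `r`-element outside `K`, for `K ⊴ X` of prime index `r`. -/
theorem exists_r_elt {X : Type u} [Group X] [Finite X] (K : Subgroup X) [K.Normal] {r : ℕ}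
    (hr : r.Prime) (hK : K.index = r) : ∃ y : X, y ∉ K ∧ ∃ k : ℕ, y ^ r ^ k = 1 := by
  have hK't : K ≠ ⊤ := by
    intro h
    rw [h, Subgroup.index_top] at hK
    exact hr.one_lt.ne hK
  obtain ⟨g, hg⟩ : ∃ g : X, g ∉ K := by
    by_contra hcon
    push Not at hcon
    exact hK't ((Subgroup.eq_top_iff' K).2 hcon)
  obtain ⟨a, m, hm, hgm⟩ := Nat.exists_eq_pow_mul_and_not_dvd (orderOf_pos g).ne' r hr.ne_one
  refine ⟨g ^ m, ?_, a, ?_⟩
  · intro h
    apply hg
    have h1 : g ^ r ∈ K := by
      rw [← hK]; exact Subgroup.pow_index_mem K g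
    have hcop : Nat.Coprime r m := (Nat.Prime.coprime_iff_not_dvd hr).2 hm
    have h2 : (1 : ℤ) = r * Nat.gcdA r m + m * Nat.gcdB r m := by
      rw [← Nat.gcd_eq_gcd_ab, hcop]; rfl
    have h3 : g = (g ^ r) ^ (Nat.gcdA r m) * (g ^ m) ^ (Nat.gcdB r m) := by
      rw [← zpow_natCast g r, ← zpow_natCast g m, ← zpow_mul, ← zpow_mul, ← zpow_add, ← h2, zpow_one]
    rw [h3]
    exact mul_mem (zpow_mem h1 _) (zpow_mem h _)
  · rw [← pow_mul, mul_comm, ← hgm, pow_orderOf_eq_one]

/-- A simple nonabelian normal subgroup lies in each normal subgroup of prime index. -/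
theorem simple_le {X : Type u} [Group X] [Finite X] (K₀ K : Subgroup X) [K₀.Normal] [K.Normal]
    (hs : IsSimpleGroup K₀) (hc : ¬ IsMulCommutative K₀) {r : ℕ} (hr : r.Prime) (hK : K.index = r) :
    K₀ ≤ K := by
  have hn : (K.subgroupOf K₀).Normal := inferInstance
  rcases hs.eq_bot_or_eq_top_of_normal _ hn with h | h
  · exfalso
    apply hc
    refine ⟨⟨fun a b => ?_⟩⟩
    have h1 : ⁅(a : X), (b : X)⁆ ∈ K := commutator_mem_of_index K hr hK _ _
    have h2 : ⁅a, b⁆ ∈ K.subgroupOf K₀ := by
      rw [Subgroup.mem_subgroupOf]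
      exact h1
    rw [h, Subgroup.mem_bot] at h2
    exact commutatorElement_eq_one_iff_mul_comm.1 h2
  · exact Subgroup.subgroupOf_eq_top.1 h

theorem thmT (hOk : AllOk.{u}) (FT : FTh.{u}) (n : ℕ) : ∀ (X : Type u) [Group X] [Finite X] (A : Set ℕ),
    Nat.card X = n → Spl A X → 2 ∈ A → 2 ∣ Nat.card X → ∀ (K : Subgroup X) [K.Normal] (r : ℕ),
      r.Prime → r ∉ A → K.index = r → TP A X := by
  induction n using Nat.strong_induction_on with
  | _ n IH =>
  intro X _ _ A hn hs h2 hev K _ r hr hrA hK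
  have := Fact.mk hr
  have h2p := Fact.mk Nat.prime_two
  have hKt : K ≠ ⊤ := by
    intro h
    rw [h, Subgroup.index_top] at hK
    exact hr.one_lt.ne hK
  have hNA : ∀ q : ℕ, q.Prime → q ∣ Nat.card (piCore A X) → q ∈ A :=
    OddOrderLocal.PiCore.piCore_isPi A
  have hNn : (piCore A X).Normal := by
    have := OddOrderLocal.PiCore.piCore_characteristic (G := X) A
    infer_instance
  have hNK : piCore A X ≤ K := le_of_index _ hNA K hr hrA hK
  by_cases hN : piCore A X = ⊥
  · by_cases hM : piCore Aᶜ X = ⊥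
    · -- the almost simple case
      exfalso
      have hnt : Nontrivial X := by
        rw [← Finite.one_lt_card_iff_nontrivial]
        exact lt_of_lt_of_le one_lt_two (Nat.le_of_dvd Nat.card_pos hev)
      obtain ⟨K₀, hK₀n, hK₀s, hK₀e, hK₀c, hK₀m⟩ := exists_simple hs h2 hN hM FT
      have hle : K₀ ≤ K := simple_le K₀ K hK₀s hK₀m hr hK
      rcases hOk K₀ hK₀s hK₀m with ⟨p, hp, hsp⟩ | hin
      · have := Fact.mk hp
        refine LieCase.false_of_hasSplit hsp hK₀c hs h2 hr hrA K hle hK ?_
        intro Y hY hYe hYK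
        refine IH (Nat.card Y) ?_ Y A rfl (hs.subgroup Y) h2 hYe (K.subgroupOf Y) r hr hrA
          (relIndex_eq_of_prime K Y hr hK hYK)
        rw [← hn]
        refine lt_of_le_of_ne (Nat.le_of_dvd Nat.card_pos (Subgroup.card_subgroup_dvd_card Y)) ?_
        intro h
        exact hY (Subgroup.eq_top_of_card_eq Y h)
      · obtain ⟨y, hyK, k, hy⟩ := exists_r_elt K hr hK
        have hodd : Odd (orderOf (MulAut.conjNormal y : MulAut K₀)) := by
          have h1 : (MulAut.conjNormal y : MulAut K₀) ^ r ^ k = 1 := by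
            rw [← map_pow, hy, map_one]
          have h3 : orderOf (MulAut.conjNormal y : MulAut K₀) ∣ r ^ k := orderOf_dvd_of_pow_eq_one h1
          have hr2 : r ≠ 2 := by rintro rfl; exact hrA h2
          exact Odd.of_dvd_nat (Odd.pow (hr.odd_of_ne_two hr2)) h3
        obtain ⟨c, hc⟩ := hin _ hodd
        have h1 : (c : X)⁻¹ * y ∈ centralizer (K₀ : Set X) := by
          rw [Subgroup.mem_centralizer_iff]
          intro x hx
          have h3 := congrArg (fun φ : MulAut K₀ => ((φ ⟨x, hx⟩ : K₀) : X)) hc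
          simp only [MulAut.conjNormal_apply, MulAut.conj_apply, Subgroup.coe_mul, Subgroup.coe_inv] at h3
          have h4 : y * x * y⁻¹ = c * x * (c : X)⁻¹ := h3
          calc x * ((c : X)⁻¹ * y) = (c : X)⁻¹ * (c * x * (c : X)⁻¹) * y := by group
            _ = (c : X)⁻¹ * (y * x * y⁻¹) * y := by rw [h4]
            _ = (c : X)⁻¹ * y * x := by group
        rw [hK₀c, Subgroup.mem_bot, inv_mul_eq_one] at h1
        exact hyK (h1 ▸ hle c.2)
    · -- `O_{A'}(X) ≠ 1`
      exfalso
      have hMn : (piCore Aᶜ X).Normal := by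
        have := OddOrderLocal.PiCore.piCore_characteristic (G := X) Aᶜ
        infer_instance
      have hMA : ∀ q : ℕ, q.Prime → q ∣ Nat.card (piCore Aᶜ X) → q ∉ A :=
        OddOrderLocal.PiCore.piCore_isPi Aᶜ
      obtain ⟨t, ht⟩ := exists_prime_orderOf_dvd_card' (G := X) 2 hev
      have ht1 : t ≠ 1 := by rintro rfl; rw [orderOf_one] at ht; omega
      have hMK : piCore Aᶜ X ≤ K := by
        refine le_of_fpf hs (piCore Aᶜ X) hMA ht1 ?_ K (commutator_mem_of_index K hr hK)
        intro q hq hd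
        rw [ht] at hd
        rwa [(Nat.prime_dvd_prime_iff_eq hq Nat.prime_two).1 hd]
      set M : Subgroup X := piCore Aᶜ X with hMdef
      have hcard : Nat.card M * Nat.card (X ⧸ M) = Nat.card X := by
        rw [mul_comm]; exact (Subgroup.card_eq_card_quotient_mul_card_subgroup M).symm
      have hM2 : ¬ 2 ∣ Nat.card M := fun h => hMA 2 Nat.prime_two h h2
      have hQ2 : 2 ∣ Nat.card (X ⧸ M) := by
        rw [← hcard] at hev
        exact (Nat.prime_two.dvd_mul.1 hev).resolve_left hM2
      have hlt : Nat.card (X ⧸ M) < n := by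
        rw [← hn, ← hcard]
        have h1 : 1 < Nat.card M := by
          rw [Finite.one_lt_card_iff_nontrivial]
          exact (Subgroup.nontrivial_iff_ne_bot M).2 hM
        have h3 : 0 < Nat.card (X ⧸ M) := Nat.card_pos
        nlinarith
      have hKn : (K.map (QuotientGroup.mk' M)).Normal :=
        Subgroup.Normal.map inferInstance _ (QuotientGroup.mk'_surjective M)
      have hTP := IH _ hlt (X ⧸ M) A rfl (hs.quotient M) h2 hQ2 (K.map (QuotientGroup.mk' M)) r hr hrA
        (by rw [index_map_mk' M K hMK, hK])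
      have hrQ : r ∣ Nat.card (X ⧸ M) := by
        have h1 := Subgroup.index_dvd_card (K.map (QuotientGroup.mk' M))
        rwa [index_map_mk' M K hMK, hK] at h1
      have h3 := odd_core (A := Aᶜ) hs.compl hM (by rw [compl_compl]; exact hTP.1) hr hrA hrQ
      rw [compl_compl] at h3
      have h4 : ¬ 2 ∣ Nat.card (piCore A (X ⧸ M)) := by
        rw [← even_iff_two_dvd, Nat.not_even_iff_odd]; exact h3.1
      have h5 : Nat.card (piCore A (X ⧸ M)) * (piCore A (X ⧸ M)).index = Nat.card (X ⧸ M) :=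
        Subgroup.card_mul_index _
      rw [← h5] at hQ2
      exact hTP.2 2 Nat.prime_two ((Nat.prime_two.dvd_mul.1 hQ2).resolve_left h4) h2
  · set N : Subgroup X := piCore A X with hNdef
    have hKn : (K.map (QuotientGroup.mk' N)).Normal :=
      Subgroup.Normal.map inferInstance _ (QuotientGroup.mk'_surjective N)
    have hKi : (K.map (QuotientGroup.mk' N)).index = r := by rw [index_map_mk' N K hNK, hK]
    have hcard : Nat.card N * Nat.card (X ⧸ N) = Nat.card X := by
      rw [mul_comm]; exact (Subgroup.card_eq_card_quotient_mul_card_subgroup N).symm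
    have hlt : Nat.card (X ⧸ N) < n := by
      rw [← hn, ← hcard]
      have h1 : 1 < Nat.card N := by
        rw [Finite.one_lt_card_iff_nontrivial]
        exact (Subgroup.nontrivial_iff_ne_bot N).2 hN
      have h3 : 0 < Nat.card (X ⧸ N) := Nat.card_pos
      nlinarith
    have hNt : N ≠ ⊤ := fun h => hKt (top_le_iff.1 (h ▸ hNK))
    by_cases hM : piCore Aᶜ (X ⧸ N) = ⊥
    · exfalso
      have hQA : piCore A (X ⧸ N) = ⊥ := OddOrderLocal.PiCore.piCore_quotient_eq_bot A
      have hnt : Nontrivial (X ⧸ N) := QuotientGroup.nontrivial_iff.2 hNt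
      by_cases hQ2 : 2 ∣ Nat.card (X ⧸ N)
      · have hTP := IH _ hlt (X ⧸ N) A rfl (hs.quotient N) h2 hQ2 (K.map (QuotientGroup.mk' N)) r hr
          hrA hKi
        exact hTP.1 hQA
      · have hodd : Odd (Nat.card (X ⧸ N)) := by
          rw [← Nat.not_even_iff_odd, even_iff_two_dvd]; exact hQ2
        haveI := FT _ hodd
        rcases Cfsg.Agent.S3857.exists_core (A := A) (G := X ⧸ N) with h | h
        · exact h hQA
        · exact h hM
    · refine ⟨hN, ?_⟩
      intro q hq hqd hqA
      have hqd' : q ∣ Nat.card (X ⧸ N) := hqd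
      have hidx := index_of_core hs hN hM hq hqA hqd'
      have := Fact.mk hq
      obtain ⟨b, hb⟩ := exists_prime_orderOf_dvd_card' (G := X ⧸ N) q hqd'
      have hMbn : (piCore Aᶜ (X ⧸ N)).Normal := by
        have := OddOrderLocal.PiCore.piCore_characteristic (G := X ⧸ N) Aᶜ
        infer_instance
      have h1 : piCore Aᶜ (X ⧸ N) ≤ K.map (QuotientGroup.mk' N) := by
        refine le_of_fpf (hs.quotient N) (piCore Aᶜ (X ⧸ N)) (OddOrderLocal.PiCore.piCore_isPi Aᶜ)
          (b := b) ?_ ?_ _ (commutator_mem_of_index _ hr hKi)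
        · rintro rfl; rw [orderOf_one] at hb; exact hq.one_lt.ne hb
        · intro p hp hd
          rw [hb] at hd
          rwa [(Nat.prime_dvd_prime_iff_eq hp hq).1 hd]
      have h3 : r ∣ (piCore Aᶜ (X ⧸ N)).index := by
        rw [← hKi]; exact Subgroup.index_dvd_of_le h1
      exact hrA (hidx r hr h3)

end Cfsg.Agent.H466.Split
end

-- part: H466/KnownOk
section
/-!
# Automorphisms of odd order of the finite simple groups

`allOk`: a finite non-abelian simple group has a split (B,N)-pair, or its automorphisms of odd order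
are inner.
-/

set_option autoImplicit false

namespace Cfsg.Agent.H466.Split

open Subgroup Cfsg Cfsg.Agent.FixBN

universe u v

/-- Transport of `OddInner`. -/
theorem OddInner.congr {K : Type u} {L : Type v} [Group K] [Group L] (e : K ≃* L) (h : OddInner L) :
    OddInner K := by
  intro φ hφ
  let ψ : MulAut L := (e.symm.trans φ).trans e
  have hpow : ∀ n : ℕ, ∀ x : L, (ψ ^ n) x = e ((φ ^ n) (e.symm x)) := by
    intro n
    induction n with
    | zero => intro x; simp
    | succ n ih =>
      intro x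
      rw [pow_succ, MulAut.mul_apply, ih, pow_succ, MulAut.mul_apply]
      congr 2
      show e.symm (e (φ (e.symm x))) = _
      rw [e.symm_apply_apply]
  have hψ : ψ ^ orderOf φ = 1 := by
    apply MulEquiv.ext
    intro x
    rw [hpow, pow_orderOf_eq_one]
    simp
  obtain ⟨l, hl⟩ := h ψ (Odd.of_dvd_nat hφ (orderOf_dvd_of_pow_eq_one hψ))
  refine ⟨e.symm l, ?_⟩
  apply MulEquiv.ext
  intro x
  have h1 := congrArg (fun f : MulAut L => f (e x)) hl
  have h2 : e (φ (e.symm (e x))) = l * e x * l⁻¹ := h1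
  rw [e.symm_apply_apply] at h2
  apply e.injective
  rw [h2, MulAut.conj_apply, map_mul, map_mul, map_inv, e.apply_symm_apply]

/-- An element of odd order in a group with a normal subgroup of index dividing two. -/
theorem mem_of_index_dvd_two {X : Type u} [Group X] (N : Subgroup X) [N.Normal] (h : N.index ∣ 2)
    {x : X} (hx : Odd (orderOf x)) : x ∈ N := by
  obtain ⟨m, hm⟩ := hx
  have h1 : x ^ 2 ∈ N := by
    obtain ⟨c, hc⟩ := h
    rw [hc, pow_mul]
    exact pow_mem (Subgroup.pow_index_mem N x) c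
  have h2 : x = (x ^ 2) ^ (m + 1) := by
    rw [← pow_mul]
    have : 2 * (m + 1) = (2 * m + 1) + 1 := by ring
    rw [this, pow_succ, ← hm, pow_orderOf_eq_one, one_mul]
  rw [h2]
  exact pow_mem h1 _

theorem OddInner.of_index {K : Type u} [Group K]
    (h : (MulAut.conj : K →* MulAut K).range.index ∣ 2) : OddInner K := by
  intro φ hφ
  have hn : (MulAut.conj : K →* MulAut K).range.Normal := innNormal K
  obtain ⟨k, hk⟩ := mem_of_index_dvd_two _ h hφ
  exact ⟨k, hk.symm⟩

/-- Outer automorphism group of order at most two. -/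
theorem OddInner.of_out {K : Type u} [Group K] (h : Nat.card (Out K) ∣ 2) : OddInner K :=
  OddInner.of_index h

theorem OddInner.of_iso {K : Type u} {L : Type v} [Group K] [Group L] (e : Nonempty (K ≃* L))
    (h : Nat.card (Out L) ∣ 2) : OddInner K := by
  obtain ⟨e⟩ := e
  exact OddInner.congr e (OddInner.of_out h)

/-- The alternating groups. -/
theorem oddInner_alt {n : ℕ} (hn : 7 ≤ n) : OddInner (alternatingGroup (Fin n)) := by
  obtain ⟨ψ, hψ⟩ := Cfsg.Agent.StandardComponent.AltAut.exists_autHom n hn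
  intro φ hφ
  have h1 : Odd (orderOf (ψ φ)) := Odd.of_dvd_nat hφ (orderOf_map_dvd ψ φ)
  have h2 : ψ φ ∈ alternatingGroup (Fin n) := by
    have : Fact (1 < n) := ⟨by omega⟩
    have hnt : Nontrivial (Fin n) := Fin.nontrivial_iff_two_le.2 (by omega)
    refine mem_of_index_dvd_two (alternatingGroup (Fin n)) ?_ h1
    rw [alternatingGroup.index_eq_two]
  refine ⟨⟨ψ φ, h2⟩, ?_⟩
  apply MulEquiv.ext
  intro x
  apply Subtype.ext
  rw [hψ]
  rfl

/-- The Tits group. -/
theorem oddInner_tits {K : Type u} [Group K] [Finite K] (hs : IsSimpleGroup K)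
    (hc : ¬ IsMulCommutative K) (h : Lie.IsoTits K) : OddInner K := by
  apply OddInner.of_index
  have hn : (MulAut.conj : K →* MulAut K).range.Normal := innNormal K
  have hcen : center K = ⊥ := by
    rcases hs.eq_bot_or_eq_top_of_normal (center K) inferInstance with h | h
    · exact h
    · exfalso
      apply hc
      refine ⟨⟨fun a b => ?_⟩⟩
      have : b ∈ center K := by rw [h]; trivial
      exact Subgroup.mem_center_iff.1 this a
  have hinj : Function.Injective (MulAut.conj : K →* MulAut K) := by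
    rw [injective_iff_map_eq_one]
    intro k hk
    have h1 : k ∈ center K := by
      rw [Subgroup.mem_center_iff]
      intro g
      have h2 : MulAut.conj k g = g := by rw [hk]; rfl
      rw [MulAut.conj_apply] at h2
      exact (mul_inv_eq_iff_eq_mul.1 h2).symm
    rwa [hcen, Subgroup.mem_bot] at h1
  have hle := Cfsg.Agent.TitsK.index_le h (MulAut.conj : K →* MulAut K).range
    ⟨(MonoidHom.ofInjective hinj).symm⟩ (by
      rw [eq_bot_iff]
      intro φ hφ
      rw [Subgroup.mem_bot]
      apply MulEquiv.ext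
      intro x
      rw [Subgroup.mem_centralizer_iff] at hφ
      have h1 := hφ (MulAut.conj x) ⟨x, rfl⟩
      have h2 : φ * MulAut.conj x * φ⁻¹ = MulAut.conj (φ x) := by
        apply MulEquiv.ext
        intro y
        simp [MulAut.conj_apply]
      have h3 : MulAut.conj x = MulAut.conj (φ x) := by
        rw [← h2, ← h1]; group
      exact (hinj h3).symm)
  have hpos : (MulAut.conj : K →* MulAut K).range.index ≠ 0 := Subgroup.index_ne_zero_of_finite
  interval_cases h : (MulAut.conj : K →* MulAut K).range.index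
  · exact absurd rfl hpos
  · norm_num
  · norm_num

/-- The sporadic groups. -/
theorem oddInner_sporadic {K : Type u} [Group K] (h : IsSporadicGroup K) : OddInner K := by
  rcases h with h | h | h | h | h | h | h | h | h | h | h | h | h | h | h | h | h | h | h | h | h | h | h | h | h | h
  · exact OddInner.of_iso h (by rw [Cfsg.Agent.S2060.result]; norm_num)
  · exact OddInner.of_iso h (by rw [Cfsg.Agent.S2061.result])
  · exact OddInner.of_iso h (by rw [Cfsg.Agent.S2062.result])
  · exact OddInner.of_iso h (by rw [Cfsg.Agent.S2063.result]; norm_num)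
  · exact OddInner.of_iso h (by rw [Cfsg.Agent.S2064.result]; norm_num)
  · exact OddInner.of_iso h (by rw [Cfsg.Agent.S2065.result]; norm_num)
  · exact OddInner.of_iso h (by rw [Cfsg.Agent.S2066.result])
  · obtain ⟨F, _, _, ω, hF, hω, ⟨e⟩⟩ := h
    exact OddInner.of_iso ⟨e⟩ (by rw [Cfsg.Agent.S2067.result hF ω hω])
  · exact OddInner.of_iso h (by rw [Cfsg.Agent.S2068.result]; norm_num)
  · exact OddInner.of_iso h (by rw [Cfsg.Agent.S2069.result]; norm_num)
  · exact OddInner.of_iso h (by rw [Cfsg.Agent.S2070.result]; norm_num)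
  · exact OddInner.of_iso h (by rw [Cfsg.Agent.S2071.result]; norm_num)
  · exact OddInner.of_iso h (by rw [Cfsg.Agent.S2073.result])
  · exact OddInner.of_iso h (by rw [Cfsg.Agent.S2072.result])
  · exact OddInner.of_iso h (by rw [Cfsg.Agent.S2074.result])
  · exact OddInner.of_iso h (by rw [Cfsg.Agent.S2075.result])
  · exact OddInner.of_iso h (by rw [Cfsg.Agent.S2077.result]; norm_num)
  · exact OddInner.of_iso h (by rw [Cfsg.Agent.S2078.result])
  · exact OddInner.of_iso h (by rw [Cfsg.Agent.S2076.result]; norm_num)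
  · exact OddInner.of_iso h (by rw [Cfsg.Agent.S2079.result])
  · exact OddInner.of_iso h (by rw [Cfsg.Agent.S2080.result]; norm_num)
  · exact OddInner.of_iso h (by rw [Cfsg.Agent.S2081.result])
  · exact OddInner.of_iso h (by rw [Cfsg.Agent.S2082.result])
  · exact OddInner.of_iso h (by rw [Cfsg.Agent.S2083.result]; norm_num)
  · exact OddInner.of_iso h (by rw [Cfsg.Agent.S2084.result]; norm_num)
  · exact OddInner.of_iso h (by rw [Cfsg.Agent.S2085.result]; norm_num)

/-- The groups of Lie type in odd characteristic. -/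
theorem hasSplit_odd {p : ℕ} (hp : p.Prime) (hp2 : p ≠ 2) {K : Type u} [Group K] [IsSimpleGroup K]
    (h : IsLieTypeChar p K) : ∃ q : ℕ, q.Prime ∧ HasSplit q K := by
  rcases exists_good_model hp2 h with ⟨L, _, _, _, hq, hsp, ⟨e⟩⟩ | h
  · exact ⟨p, hp, Transport.hasSplit_congr e.symm hsp.hasSplit⟩
  · exact ⟨3, Nat.prime_three, ReeSplit.hasSplit_of_isoRee h⟩

theorem lie_of_alt_six {K : Type u} [Group K] (h : Nonempty (K ≃* alternatingGroup (Fin 6))) :
    IsLieTypeChar 3 K := by
  obtain ⟨e⟩ := h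
  have := Fact.mk Nat.prime_three
  letI : Fintype (GaloisField 3 2) := Fintype.ofFinite _
  have hcard : Fintype.card (GaloisField 3 2) = 9 := by
    rw [← Nat.card_eq_fintype_card, GaloisField.card 3 2 (by norm_num)]; norm_num
  obtain ⟨f⟩ := Cfsg.Agent.S0254.result (F := GaloisField 3 2) hcard
  exact Or.inl ⟨GaloisField 3 2, inferInstance, inferInstance, inferInstance, 2, le_rfl,
    fun _ => by rw [hcard]; norm_num, ⟨e.trans f.symm⟩⟩

/-- **All finite simple groups.** -/
theorem allOk : AllOk.{u} := by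
  intro K _ _ hs hc
  have hk : IsKnownSimple' K := Cfsg.Agent.S0000.result
  rcases Cfsg.Agent.Omega.ML.Known.cases hk with h | h | ⟨⟨p, hp, hp2, h⟩, -⟩ | h | ⟨n, hn, -, ⟨e⟩⟩ | h | h
  · exfalso
    apply hc
    have h1 : Fact (Nat.card K).Prime := ⟨h⟩
    have h2 : IsCyclic K := isCyclic_of_prime_card (p := Nat.card K) rfl
    exact IsCyclic.isMulCommutative
  · exact Or.inl ⟨2, Nat.prime_two, Cfsg.Agent.Omega.ML.LieRow.hasSplit_of_lie h⟩
  · exact Or.inl (hasSplit_odd hp hp2 h)
  · exact Or.inl (hasSplit_odd Nat.prime_three (by norm_num) (lie_of_alt_six h))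
  · exact Or.inr (OddInner.congr e (oddInner_alt hn))
  · exact Or.inr (oddInner_tits hs hc h)
  · exact Or.inr (oddInner_sporadic h)

end Cfsg.Agent.H466.Split
end
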